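import Cfsg.Agent.H781.Cov9.Perm_m3
import Cfsg.Agent.H392.UG.Base
import Cfsg.Agent.H149.PGU3
import Cfsg.Agent.H375.O8.TypeA_m3
import Cfsg.Agent.H953.Dg.Cyc
import Cfsg.Agent.H454.Reg.Tools
import Cfsg.Agent.H270.Crit.Base
import Cfsg.Agent.H183.OutPSU
import Cfsg.Agent.H922.OddFull
import Cfsg.Agent.H918.UBase
import Cfsg.Agent.LieClassical.HermBasic
import Cfsg.Agent.S5663
import Cfsg.Prelude.Def_GeometricClasses
import Cfsg.Prelude.Def_Spor_Mathieu
import Cfsg.Agent.H947.El.PsuB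
import Cfsg.Agent.H97.Sp4Ext
import Cfsg.Agent.StandardComponent.AltAut
import Cfsg.Agent.S5778
import Cfsg.Agent.H77.Witt
import Cfsg.Agent.ClassicalGeometry.UnitGenTwo
import Cfsg.Agent.H997.Rg.Lin
import Cfsg.Agent.H997.Rg.Core_m3
import Cfsg.Agent.FastGrp
import Cfsg.Agent.Prune
set_option linter.all false

section
prune_inst 0x7ff3edfdfbb88ddfdfff7e75fefddffc3a905fffafdff94bbfec29df2fdf23020bc5fb8f09e000fe0ed6601410b87803fbffeeffea6fdc7ffffd5ff41ffbee4ff5f7b50851949c340fbc0ff703f0678e7f3fffffffffffffffffffffffffffbeffbfffffffff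

-- part: H89/Reg/Top
section
prune_inst 0x200473000200000020000000001400000400000004000c000800000940008002004007001002082e800000040000000000000000000000000000000100208000020010000000060089000100000000000000000000000000000000000004000000000
set_option linter.all false
open scoped Cfsg.Agent.FastGrp

-- part: H89/Reg/Num
section
/-!
# S3691, row `PSU_N(q)`: the primes

* `Pm p f k l` (`q = p ^ f`, `k` odd): `l` is a primitive prime divisor of `p ^ (2 k f) - 1`;
* `Gd p f k l` : moreover the `l`-part of `q ^ k + 1` is larger than `2 k + 1`;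
* `exists_gd` : good primes exist for odd `k ≥ 7`, `(q, k) ≠ (2, 9)`;
* `Gd.num` : elements of order `l ^ v` satisfy the numerical hypothesis of `S5948`.
-/

set_option autoImplicit false

namespace Cfsg.Agent.H89.Reg

open Cfsg.Agent.H278.Cov Cfsg.Agent.H251.GeoU Cfsg.Agent.H588.ZsigPart

/-- a primitive prime divisor of `p ^ (2 k f) - 1` -/
structure Pm (p f k l : ℕ) : Prop where
  pr : l.Prime
  iff : ∀ j, l ∣ p ^ j - 1 ↔ 2 * k * f ∣ j

/-- a good prime -/
structure Gd (p f k l : ℕ) : Prop extends Pm p f k l where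
  big : 2 * k + 1 < l ^ ((p ^ f) ^ k + 1).factorization l

namespace Pm

variable {p f k l : ℕ}

theorem not_dvd_p (h : Pm p f k l) (hp : p.Prime) (hf : 1 ≤ f) (hk : 1 ≤ k) : ¬ l ∣ p := by
  intro h1
  have h2 := (h.iff (2 * k * f)).2 dvd_rfl
  have h3 : l ∣ p ^ (2 * k * f) := dvd_pow h1 (by positivity)
  have h4 : 1 ≤ p ^ (2 * k * f) := Nat.one_le_pow _ _ hp.pos
  have h5 : l ∣ p ^ (2 * k * f) - (p ^ (2 * k * f) - 1) := Nat.dvd_sub h3 h2
  have h6 : p ^ (2 * k * f) - (p ^ (2 * k * f) - 1) = 1 := by omega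
  rw [h6] at h5
  exact h.pr.one_lt.ne' (Nat.dvd_one.1 h5)

theorem dvd_pred (h : Pm p f k l) (hp : p.Prime) (hf : 1 ≤ f) (hk : 1 ≤ k) : 2 * k * f ∣ l - 1 := by
  have := Fact.mk h.pr
  rw [← h.iff]
  have h1 : (p : ZMod l) ≠ 0 := fun h2 => h.not_dvd_p hp hf hk ((ZMod.natCast_eq_zero_iff _ _).1 h2)
  have h2 := ZMod.pow_card_sub_one_eq_one h1
  rw [Lib.Zsigmondy.dvd_pow_sub_one_iff hp.one_lt.le]
  exact orderOf_dvd_of_pow_eq_one h2

theorem lt (h : Pm p f k l) (hp : p.Prime) (hf : 1 ≤ f) (hk : 1 ≤ k) : 2 * k * f < l := by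
  have h1 := h.dvd_pred hp hf hk
  have h2 := h.pr.two_le
  have := Nat.le_of_dvd (by omega) h1
  omega

theorem not_dvd_f (h : Pm p f k l) (hp : p.Prime) (hf : 1 ≤ f) (hk : 1 ≤ k) : ¬ l ∣ f := by
  intro h1
  have h2 := h.lt hp hf hk
  have h3 := Nat.le_of_dvd (by omega) h1
  nlinarith

theorem ne_two (h : Pm p f k l) (hp : p.Prime) (hf : 1 ≤ f) (hk : 1 ≤ k) : l ≠ 2 := by
  intro h1
  have h2 := h.lt hp hf hk
  nlinarith

theorem not_dvd_q (h : Pm p f k l) (hp : p.Prime) (hf : 1 ≤ f) (hk : 1 ≤ k) : ¬ l ∣ p ^ f := fun h1 =>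
  h.not_dvd_p hp hf hk (h.pr.dvd_of_dvd_pow h1)

theorem not_dvd_pow (h : Pm p f k l) (hf : 1 ≤ f) {i : ℕ} (hi : 1 ≤ i) (hik : i < k) :
    ¬ l ∣ ((p ^ f) ^ 2) ^ i - 1 := by
  rw [← pow_mul, ← pow_mul, h.iff]
  intro h1
  have h3 := Nat.le_of_dvd (by positivity) h1
  have h2 : f * (2 * i) < 2 * k * f := by nlinarith only [hf, hik]
  exact absurd h3 (not_le.2 h2)

theorem not_dvd_succ (h : Pm p f k l) (hf : 1 ≤ f) (hk : 2 ≤ k) : ¬ l ∣ p ^ f + 1 := by
  intro h1
  apply h.not_dvd_pow hf le_rfl (by omega : 1 < k)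
  rw [pow_one]
  have := Nat.sq_sub_sq (p ^ f) 1
  rw [one_pow] at this
  rw [this]
  exact Dvd.dvd.mul_right h1 _

theorem ord (h : Pm p f k l) (hp : p.Prime) (hf : 1 ≤ f) (hk : 1 ≤ k) (hodd : Odd k) :
    orderOf (-((p ^ f : ℕ) : ZMod l)) = k := by
  have := Fact.mk h.pr
  have hpord : ∀ j, (p : ZMod l) ^ j = 1 ↔ 2 * k * f ∣ j := by
    intro j
    rw [← orderOf_dvd_iff_pow_eq_one, ← Lib.Zsigmondy.dvd_pow_sub_one_iff hp.one_lt.le, h.iff]
  have h1 : ((p ^ f : ℕ) : ZMod l) ^ k = -1 := by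
    have h2 : ((p ^ f : ℕ) : ZMod l) ^ k * ((p ^ f : ℕ) : ZMod l) ^ k = 1 := by
      push_cast
      rw [← pow_add, ← pow_mul, hpord]
      exact ⟨1, by ring⟩
    have h3 : ((p ^ f : ℕ) : ZMod l) ^ k ≠ 1 := by
      push_cast
      rw [← pow_mul, Ne, hpord]
      intro h4
      have := Nat.le_of_dvd (by positivity) h4
      nlinarith
    rcases mul_self_eq_one_iff.1 h2 with h4 | h4
    · exact absurd h4 h3
    · exact h4
  apply Nat.dvd_antisymm
  · rw [orderOf_dvd_iff_pow_eq_one, hodd.neg_pow, h1, neg_neg]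
  · have h2 : (-((p ^ f : ℕ) : ZMod l)) ^ orderOf (-((p ^ f : ℕ) : ZMod l)) = 1 := pow_orderOf_eq_one _
    set o := orderOf (-((p ^ f : ℕ) : ZMod l)) with ho
    have h3 : (p : ZMod l) ^ (2 * f * o) = 1 := by
      have h4 : ((-((p ^ f : ℕ) : ZMod l)) ^ o) ^ 2 = 1 := by rw [h2, one_pow]
      rw [← pow_mul, mul_comm o 2, pow_mul, neg_sq] at h4
      push_cast at h4
      rw [← h4, ← pow_mul, ← pow_mul]
      congr 1
      ring
    rw [hpord] at h3
    have h4 : 2 * f * k ∣ 2 * f * o := by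
      rwa [show 2 * k * f = 2 * f * k by ring] at h3
    exact Nat.dvd_of_mul_dvd_mul_left (by omega) h4

/-- `l ∣ q ^ k + 1` -/
theorem dvd_add (h : Pm p f k l) (hf : 1 ≤ f) (hk : 1 ≤ k) : l ∣ (p ^ f) ^ k + 1 := by
  have h1 : l ∣ (p ^ f) ^ (2 * k) - 1 := by
    rw [← pow_mul, h.iff]
    exact ⟨1, by ring⟩
  have h2 : (p ^ f) ^ (2 * k) - 1 = ((p ^ f) ^ k + 1) * ((p ^ f) ^ k - 1) := by
    rw [mul_comm 2 k, pow_mul]
    have := Nat.sq_sub_sq ((p ^ f) ^ k) 1
    rwa [one_pow] at this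
  rw [h2] at h1
  refine (h.pr.dvd_mul.1 h1).resolve_right fun h3 => ?_
  rw [← pow_mul, h.iff] at h3
  have := Nat.le_of_dvd (by positivity) h3
  nlinarith only [hf, hk, this]

end Pm

theorem exists_pm {p f k : ℕ} (hp : p.Prime) (hf : 1 ≤ f) (hk : 5 ≤ k) (hodd : Odd k) : ∃ l, Pm p f k l := by
  obtain ⟨l, h1, h2, -, -⟩ := exists_big hp hf (by omega) hodd (by omega)
  exact ⟨l, h1, h2⟩

/-- good primes exist -/
theorem exists_gd {p f k : ℕ} (hp : p.Prime) (hf : 1 ≤ f) (hk : 7 ≤ k) (hodd : Odd k)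
    (hex : ¬ (p ^ f = 2 ∧ k = 9)) : ∃ l, Gd p f k l := by
  obtain ⟨l, hl⟩ := exists_pm hp hf (by omega) hodd
  have hlt := hl.lt hp hf (by omega)
  have hd := hl.dvd_add hf (by omega)
  have hne : (p ^ f) ^ k + 1 ≠ 0 := by omega
  have hv : 1 ≤ ((p ^ f) ^ k + 1).factorization l := (hl.pr.dvd_iff_one_le_factorization hne).1 hd
  have hle : l ≤ l ^ ((p ^ f) ^ k + 1).factorization l := Nat.le_self_pow (by omega) l
  by_cases h1 : 2 * k + 1 < l
  · exact ⟨l, hl, by omega⟩
  -- `f = 1`, `l = 2 k + 1`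
  have hf1 : f = 1 := by
    by_contra h
    have : 2 * k * 2 ≤ 2 * k * f := Nat.mul_le_mul_left _ (by omega)
    omega
  subst hf1
  have hl1 : l = 2 * k + 1 := by omega
  rw [pow_one] at hd hne hv hle hex
  by_cases h2 : l ^ 2 ∣ p ^ k + 1
  · refine ⟨l, hl, ?_⟩
    rw [pow_one]
    have h3 : 2 ≤ (p ^ k + 1).factorization l := (hl.pr.pow_dvd_iff_le_factorization hne).1 h2
    have h4 : l ^ 2 ≤ l ^ (p ^ k + 1).factorization l := Nat.pow_le_pow_right hl.pr.pos h3
    nlinarith only [hk, hlt, h4]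
  · have hE : ¬ Exc p (2 * k) := by
      intro hE
      simp only [Exc, List.mem_cons, Prod.mk.injEq, List.not_mem_nil, or_false] at hE
      obtain ⟨c, rfl⟩ := hodd
      rcases hE with h | h | h | h | h | h | h | h | h | h | h | h | h
      all_goals (clear * - hk h hex hne; omega)
    obtain ⟨m, ⟨hm1, hm2⟩, hm3⟩ := exists_large hp.two_le (by omega) hE
    have hfac : p ^ (2 * k) - 1 = (p ^ k + 1) * (p ^ k - 1) := by
      rw [mul_comm 2 k, pow_mul]
      have := Nat.sq_sub_sq (p ^ k) 1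
      rwa [one_pow] at this
    have hmd : m ∣ p ^ k + 1 := by
      rw [hfac] at hm1
      exact (hm2 k (by omega) (by omega)).dvd_of_dvd_mul_right hm1
    have hm0 : m ≠ 0 := by omega
    obtain ⟨l', hl', hl'm, hne'⟩ : ∃ l', l'.Prime ∧ l' ∣ m ∧ l' ≠ l := by
      by_contra hcon
      push Not at hcon
      have h3 : m = l ^ m.factorization l := by
        have h4 : m.primeFactors ⊆ {l} := by
          intro r hr
          rw [Finset.mem_singleton]
          exact hcon r (Nat.prime_of_mem_primeFactors hr) (Nat.dvd_of_mem_primeFactors hr)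
        conv_lhs => rw [← Nat.prod_factorization_pow_eq_self hm0]
        rw [Finsupp.prod_of_support_subset _ (s := {l}) (by rwa [Nat.support_factorization]) _
          (fun _ _ => pow_zero _), Finset.prod_singleton]
      have h4 : m.factorization l ≤ 1 := by
        by_contra h5
        apply h2
        refine dvd_trans ?_ hmd
        rw [h3]
        exact pow_dvd_pow l (by omega)
      have h5 : m ≤ l := by
        rw [h3]
        calc l ^ m.factorization l ≤ l ^ 1 := Nat.pow_le_pow_right hl.pr.pos h4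
          _ = l := pow_one l
      omega
    have := Fact.mk hl'
    have hord : orderOf (p : ZMod l') = 2 * k := by
      rw [orderOf_eq_iff (by omega)]
      constructor
      · have h3 : l' ∣ p ^ (2 * k) - 1 := hl'm.trans hm1
        rw [Lib.Zsigmondy.dvd_pow_sub_one_iff hp.one_lt.le, orderOf_dvd_iff_pow_eq_one] at h3
        exact h3
      · intro i hi hi0 h3
        have h4 : l' ∣ p ^ i - 1 := by
          rw [Lib.Zsigmondy.dvd_pow_sub_one_iff hp.one_lt.le]
          exact orderOf_dvd_of_pow_eq_one h3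
        exact Nat.not_coprime_of_dvd_of_dvd hl'.one_lt hl'm h4 (hm2 i hi0 hi)
    have hpm : Pm p 1 k l' := ⟨hl', fun j => by
      rw [Lib.Zsigmondy.dvd_pow_sub_one_iff hp.one_lt.le, hord, mul_one]⟩
    refine ⟨l', hpm, ?_⟩
    rw [pow_one]
    have h3 := hpm.dvd_pred hp le_rfl (by omega)
    have h4 := hpm.lt hp le_rfl (by omega)
    have h5 : 2 * k + 1 < l' := by
      rcases lt_or_eq_of_le (show 2 * k + 1 ≤ l' by omega) with h6 | h6
      · exact h6
      · exfalso
        apply hne'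
        omega
    have h6 : 1 ≤ (p ^ k + 1).factorization l' :=
      (hl'.dvd_iff_one_le_factorization hne).1 (hl'm.trans hmd)
    have h7 : l' ≤ l' ^ (p ^ k + 1).factorization l' := Nat.le_self_pow (by omega) l'
    omega

/-- the numerical hypothesis of `S5948` -/
theorem Gd.num {p f k l n : ℕ} (h : Gd p f k l) (hp : p.Prime) (hf : 1 ≤ f) (hn : 10 ≤ n) (hk : k ≤ n)
    (hk2 : n < 2 * k) : Num ((p ^ f) ^ 2) n k (l ^ ((p ^ f) ^ k + 1).factorization l) where
  ten := hn
  le := hk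
  lt := hk2
  big := h.big
  dvd := by
    have h1 : l ^ ((p ^ f) ^ k + 1).factorization l ∣ (p ^ f) ^ k + 1 := Nat.ordProj_dvd _ _
    refine h1.trans ?_
    have h2 : ((p ^ f) ^ 2) ^ k = ((p ^ f) ^ k) ^ 2 := by rw [← pow_mul, mul_comm, pow_mul]
    have := Nat.sq_sub_sq ((p ^ f) ^ k) 1
    rw [one_pow] at this
    rw [h2, this]
    exact Dvd.intro _ rfl
  prim := by
    intro i hi hik
    apply Nat.Coprime.pow_left
    rw [h.pr.coprime_iff_not_dvd]
    exact h.toPm.not_dvd_pow hf hi hik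
  sub := by
    refine ⟨l, h.pr, ?_, ?_⟩
    · refine dvd_pow_self l ?_
      have hne : (p ^ f) ^ k + 1 ≠ 0 := by omega
      have := (h.pr.dvd_iff_one_le_factorization hne).1 (h.toPm.dvd_add hf (by omega))
      omega
    · intro q₀ r hr hq j hj1 hj2
      refine Cfsg.Agent.H906.Cov.sub_of (A := f * 2) (K := k) hp (by omega) hk2 (fun i hi1 hi2 => ?_) hr
        (by rw [← hq, pow_mul]) hj1 hj2
      rw [h.iff]
      intro h1
      have := Nat.le_of_dvd hi1 h1
      have h2 : f * 2 * k = 2 * k * f := by ring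
      omega

/-- a prime `s` with `orderOf (-q) = n` even -/
structure Ev (p f n s : ℕ) : Prop where
  pr : s.Prime
  ord : orderOf (-((p ^ f : ℕ) : ZMod s)) = n
  not_dvd_f : ¬ s ∣ f
  ne_two : s ≠ 2

theorem not_dvd_succ_of_ord {q n s : ℕ} (hn : 2 ≤ n) (h : orderOf (-(q : ZMod s)) = n) : ¬ s ∣ q + 1 := by
  intro h1
  have h2 : (-(q : ZMod s)) = 1 := by
    have h3 : ((q + 1 : ℕ) : ZMod s) = 0 := (ZMod.natCast_eq_zero_iff _ _).2 h1
    push_cast at h3
    rw [neg_eq_iff_add_eq_zero]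
    rw [add_comm]
    rw [add_comm] at h3
    exact h3
  rw [h2, orderOf_one] at h
  omega

theorem Ev.not_dvd_succ {p f n s : ℕ} (h : Ev p f n s) (hn : 2 ≤ n) : ¬ s ∣ p ^ f + 1 :=
  not_dvd_succ_of_ord hn h.ord

theorem Ev.le {p f n s : ℕ} (h : Ev p f n s) (hn : 1 ≤ n) : n + 1 ≤ s := by
  have h1 := dvd_pred_of_ord h.pr h.ord hn
  have h2 := h.pr.two_le
  have := Nat.le_of_dvd (by omega) h1
  omega

theorem exists_ev {p f n : ℕ} (hp : p.Prime) (hf : 1 ≤ f) (hn : 4 ≤ n) : ∃ s, Ev p f n s := by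
  obtain ⟨s, h1, h2, h3, -, h5⟩ := H149.NegPrime.exists_neg_prime (i := n) hp rfl hf (by omega) (by omega)
  exact ⟨s, h1, h2, h3, h5⟩

/-- even primes `s ≠ n + 1`, or with `s ^ 2 ∣ q ^ n - 1` -/
theorem exists_ev' {p f n : ℕ} (hp : p.Prime) (hf : 1 ≤ f) (hn : 10 ≤ n) (hev : Even n)
    (hex : ¬ (n = 12 ∧ p ^ f = 2)) : ∃ s, Ev p f n s ∧ (s ≠ n + 1 ∨ s ^ 2 ∣ (p ^ f) ^ n - 1) := by
  by_cases hN : (n + 1).Prime
  swap
  · obtain ⟨s, hs⟩ := exists_ev (p := p) (f := f) (n := n) hp hf (by omega)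
    exact ⟨s, hs, Or.inl fun h => hN (h ▸ hs.pr)⟩
  have hq : 2 ≤ p ^ f := hp.two_le.trans (Nat.le_self_pow (by omega) p)
  set e := if n % 4 = 2 then n / 2 else n with he
  have hen : e ≤ n ∧ n ≤ 2 * e ∧ 5 ≤ e ∧ (e = n ∨ n = 2 * e) := by
    obtain ⟨c, hc⟩ := hev
    rw [he]
    split_ifs <;> (clear * - hn hc; omega)
  obtain ⟨he1, he2, he5, he3⟩ := hen
  have hnodd : ¬ Odd n := Nat.not_odd_iff_even.2 hev
  have hcase : ∀ {s : ℕ}, s.Prime → orderOf (((p ^ f : ℕ) : ZMod s)) = e → orderOf (-((p ^ f : ℕ) : ZMod s)) = n := by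
    intro s hs h
    have := Fact.mk hs
    apply H149.NegPrime.orderOf_neg_case (by omega)
    rw [if_neg hnodd, h]
  have hf0 : 0 < f := hf
  have hfe : 5 ≤ f * e := le_trans he5 (Nat.le_mul_of_pos_left e hf0)
  have he6 : e ≠ 6 := by
    rw [he]
    split_ifs <;> omega
  obtain ⟨r, hr, ho⟩ := Lib.Zsigmondy.exists_prime_orderOf (a := p) (n := f * e) hp.two_le (by omega)
    (fun h => by omega) (by
      rintro ⟨-, h⟩
      have hf1 : f = 1 := by
        by_contra h1
        have : 2 * e ≤ f * e := Nat.mul_le_mul_right _ (by omega)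
        omega
      rw [hf1] at h
      omega)
  have := Fact.mk hr
  have hrp : ¬ r ∣ p := by
    intro h
    rw [Nat.prime_dvd_prime_iff_eq hr hp] at h
    subst h
    rw [ZMod.natCast_self, orderOf_zero] at ho
    omega
  have hd := Lib.Zsigmondy.orderOf_dvd_pred hr hrp
  rw [ho] at hd
  have hle := Nat.le_of_dvd (by have := hr.two_le; omega) hd
  have hrq : orderOf (((p ^ f : ℕ) : ZMod r)) = e := by
    rw [Nat.cast_pow, orderOf_pow_of_dvd (by omega) (by rw [ho]; exact Dvd.intro _ rfl), ho,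
      Nat.mul_div_cancel_left _ (by omega)]
  have hrf : ¬ r ∣ f := by
    intro h
    have := Nat.le_of_dvd (by omega) h
    have : f ≤ f * e := Nat.le_mul_of_pos_right f (by omega)
    have := hr.two_le
    omega
  by_cases hrN : r = n + 1
  swap
  · exact ⟨r, ⟨hr, hcase hr hrq, hrf, by omega⟩, Or.inl hrN⟩
  have hf2 : f ≤ 2 := by
    by_contra h
    have h1 : 3 * e ≤ f * e := Nat.mul_le_mul_right _ (by omega)
    omega
  have hE : ¬ Exc (p ^ f) e := by
    intro hE
    simp only [Exc, List.mem_cons, Prod.mk.injEq, List.not_mem_nil, or_false] at hE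
    have h20 : e ≠ 20 := by
      intro h
      have h1 := he
      rw [h] at h1
      split_ifs at h1 with h2
      · omega
      · rw [← h1] at hN
        norm_num at hN
    have h10 : e ≠ 10 ∧ e ≠ 18 ∧ (e = 12 → n = 12) ∧ e ≠ 8 := by
      rw [he]
      split_ifs <;> omega
    rcases hE with h | h | h | h | h | h | h | h | h | h | h | h | h
    all_goals (clear * - hn he1 he2 he6 this hrq hrN h20 h10 h he5 hex; omega)
  obtain ⟨m, ⟨hm1, hm2⟩, hm3⟩ := exists_large hq (by omega) hE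
  have hm0 : m ≠ 0 := by omega
  have hord : ∀ s : ℕ, s.Prime → s ∣ m → orderOf (((p ^ f : ℕ) : ZMod s)) = e := by
    intro s hs hsm
    rw [orderOf_eq_iff (by omega)]
    constructor
    · have h3 : s ∣ (p ^ f) ^ e - 1 := hsm.trans hm1
      rw [Lib.Zsigmondy.dvd_pow_sub_one_iff (by omega), orderOf_dvd_iff_pow_eq_one] at h3
      exact h3
    · intro i hi hi0 h3
      have h4 : s ∣ (p ^ f) ^ i - 1 := by
        rw [Lib.Zsigmondy.dvd_pow_sub_one_iff (by omega)]
        exact orderOf_dvd_of_pow_eq_one h3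
      exact Nat.not_coprime_of_dvd_of_dvd hs.one_lt hsm h4 (hm2 i hi0 hi)
  by_cases hs : ∃ s, s.Prime ∧ s ∣ m ∧ s ≠ n + 1
  · obtain ⟨s, hs, hsm, hsn⟩ := hs
    have h1 := hcase hs (hord s hs hsm)
    have h2 : n ∣ s - 1 := dvd_pred_of_ord hs h1 (by omega)
    have h3 := Nat.le_of_dvd (by have := hs.two_le; omega) h2
    refine ⟨s, ⟨hs, h1, ?_, by omega⟩, Or.inl hsn⟩
    intro h4
    have := Nat.le_of_dvd (by omega) h4
    omega
  · push Not at hs
    refine ⟨n + 1, ⟨hN, ?_, ?_, by omega⟩, Or.inr ?_⟩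
    · rw [← hrN]
      exact hcase hr hrq
    · rw [← hrN]
      exact hrf
    have h3 : m = (n + 1) ^ m.factorization (n + 1) := by
      have h4 : m.primeFactors ⊆ {n + 1} := by
        intro r hr
        rw [Finset.mem_singleton]
        exact hs r (Nat.prime_of_mem_primeFactors hr) (Nat.dvd_of_mem_primeFactors hr)
      conv_lhs => rw [← Nat.prod_factorization_pow_eq_self hm0]
      rw [Finsupp.prod_of_support_subset _ (s := {n + 1}) (by rwa [Nat.support_factorization]) _
        (fun _ _ => pow_zero _), Finset.prod_singleton]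
    have h4 : 2 ≤ m.factorization (n + 1) := by
      by_contra h5
      have : m ≤ n + 1 := by
        rw [h3]
        calc (n + 1) ^ m.factorization (n + 1) ≤ (n + 1) ^ 1 := Nat.pow_le_pow_right (by omega) (by omega)
          _ = n + 1 := pow_one _
      omega
    have h5 : (n + 1) ^ 2 ∣ m := by
      rw [h3]
      exact pow_dvd_pow _ h4
    refine (h5.trans hm1).trans ?_
    rcases he3 with h6 | h6
    · rw [h6]
    · rw [h6, mul_comm 2 e, pow_mul]
      have := Nat.sq_sub_sq ((p ^ f) ^ e) 1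
      rw [one_pow] at this
      rw [this]
      exact Dvd.intro_left _ rfl

end Cfsg.Agent.H89.Reg
end

-- part: H89/Reg/Tools
section
/-!
# S3691, row `PSU_N(q)`: tools for subgroups of `SU_n(q)`
-/

set_option autoImplicit false
set_option linter.unusedSectionVars false

namespace Cfsg.Agent.H89.Reg

open Cfsg Cfsg.Geo Module Matrix
open Cfsg.Agent.LieClassical.HermBasic Cfsg.Agent.ClassicalGeometry.HermOrtho
open Cfsg.Agent.LieClassical.HermSiegel (act mat act_mul act_one act_inv_act act_act_inv herm_act)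
open Cfsg.Agent.H278.Cov
open Cfsg.Agent.GpUn (fx mem_fx ND fixG mem_fixG exists_equiv)
open Cfsg.Agent.H779.DP (rho rho_apply rho_injective)
open Cfsg.Agent.H809.SelfCent (toG toG_injective toG_val)
open Cfsg.Agent.H674.SUTools (cm cm_injective det_cm)
open Cfsg.Agent.H981.Cov (isUnitaryForm_herm)

variable {F : Type} [Field F] [Fintype F] {n q : ℕ}

/-- `W` is invariant under `A` -/
def InvA (A : Subgroup (SU n F q)) (W : Submodule F (Fin n → F)) : Prop := ∀ g ∈ A, ∀ w ∈ W, act g w ∈ W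

/-- `A` normalises a field of degree `r` -/
def NF (A : Subgroup (SU n F q)) (r : ℕ) : Prop :=
  ∃ E : Subalgebra F (Matrix (Fin n) (Fin n) F), IsFieldSubalgebra r E ∧ ∀ g ∈ A, toG n F q g ∈ subalgebraNormalizer E

/-- overgroups of an element of large primitive order -/
theorem ogs (hP : Cfsg.Agent.H659.CovCore.S5948Stmt.{0}) (hF : Fintype.card F = q ^ 2) {A : Subgroup (SU n F q)}
    (hA : A ≠ ⊤) {x : SU n F q} (hx : x ∈ A) {k : ℕ} (hnum : Num (q ^ 2) n k (orderOf x)) :
    (∃ W : Submodule F (Fin n → F), W ≠ ⊥ ∧ W ≠ ⊤ ∧ InvA A W) ∨ ∃ r, r.Prime ∧ r ∣ Nat.gcd n k ∧ NF A r := by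
  set K := A.map (toG n F q) with hK
  have hfix : FixesForm (matrixSet K) (hermForm n F q) := by
    rintro _ ⟨_, ⟨z, hz, rfl⟩, rfl⟩ u v
    exact z.2 u v
  have hdet : ∀ z ∈ K, Matrix.GeneralLinearGroup.det z = 1 := by
    rintro _ ⟨z, hz, rfl⟩
    apply Units.ext
    exact det_cm z
  have hne : ∃ z : GL (Fin n) F, FixesForm {(z : Matrix (Fin n) (Fin n) F)} (hermForm n F q) ∧
      Matrix.GeneralLinearGroup.det z = 1 ∧ z ∉ K := by
    obtain ⟨z, hz⟩ : ∃ z, z ∉ A := by
      by_contra hc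
      push Not at hc
      exact hA (Subgroup.eq_top_iff' A |>.2 hc)
    refine ⟨toG n F q z, ?_, ?_, ?_⟩
    · intro w hw u v
      rw [Set.mem_singleton_iff.1 hw]
      exact z.2 u v
    · apply Units.ext
      exact det_cm z
    · rintro ⟨w, hw, hwz⟩
      rw [toG_injective hwz] at hw
      exact hz hw
  have hxK : toG n F q x ∈ K := ⟨x, hx, rfl⟩
  have hox : orderOf (toG n F q x) = orderOf x := orderOf_injective _ toG_injective x
  have hog := Cfsg.Agent.H89.Cov.og_su hP hF (isUnitaryForm_herm hF) hfix hdet hne hxK (k := k)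
    (by rw [hox, Fintype.card_fin, hF]; exact hnum)
  rcases hog with ⟨W, hW0, hW1, hW⟩ | ⟨r, E, hr, hrd, hEf, hEK⟩
  · left
    refine ⟨W, hW0, hW1, fun g hg w hw => ?_⟩
    exact ((hW ⟨g, hg, rfl⟩) w).1 hw
  · right
    rw [Fintype.card_fin] at hrd
    exact ⟨r, hr, hrd, E, hEf, fun g hg => hEK ⟨g, hg, rfl⟩⟩

/-! ### dimensions -/

theorem InvA.perp {A : Subgroup (SU n F q)} {W : Submodule F (Fin n → F)} (h : InvA A W) :
    InvA A (hermPerp q (W : Set (Fin n → F))) := fun _ hg _ hw =>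
  Cfsg.Agent.GpUn.act_perp (fun u hu => h _ (A.inv_mem hg) u hu) hw

theorem finrank_perp (hF : Fintype.card F = q ^ 2) (W : Submodule F (Fin n → F)) :
    finrank F W + finrank F (hermPerp q (W : Set (Fin n → F))) = n := by
  have h := (H950.frm_herm hF n).finrank_perp_inf' (H950.nd_top hF n) (le_top (a := W))
  rw [inf_top_eq, finrank_top, finrank_fin_fun] at h
  exact h

/-- a small invariant subspace -/
theorem exists_small (hF : Fintype.card F = q ^ 2) {A : Subgroup (SU n F q)} {W : Submodule F (Fin n → F)}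
    (h0 : W ≠ ⊥) (h1 : W ≠ ⊤) (hW : InvA A W) :
    ∃ W' : Submodule F (Fin n → F), 1 ≤ finrank F W' ∧ 2 * finrank F W' ≤ n ∧ InvA A W' := by
  have h2 := finrank_perp hF W
  have h3 : 0 < finrank F W := by
    rw [Nat.pos_iff_ne_zero]
    exact fun h => h0 (Submodule.finrank_eq_zero.1 h)
  have h4 : finrank F W < n := by
    have := Submodule.finrank_lt h1
    rwa [finrank_fin_fun] at this
  by_cases h5 : 2 * finrank F W ≤ n
  · exact ⟨W, h3, h5, hW⟩
  · exact ⟨_, by omega, by omega, hW.perp⟩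

section Dim

variable {l e a : ℕ} {x : SU n F q}

theorem dvd_dim (hl : l.Prime) (he : orderOf ((Nat.card F : ℕ) : ZMod l) = e) (he0 : e ≠ 0)
    (hx : x ^ l ^ a = 1) {W : Submodule F (Fin n → F)} (hW : ∀ w ∈ W, act x w ∈ W) :
    e ∣ finrank F W - finrank F (W ⊓ fx x : Submodule F (Fin n → F)) := by
  have h := H524.LinReg.dvd_finrank (rho n F q) hl hx he he0 (U := W) (fun u hu => by rw [rho_apply]; exact hW u hu)
  rwa [H779.DP.fx_rho] at h

theorem le_fx (hl : l.Prime) (he : orderOf ((Nat.card F : ℕ) : ZMod l) = e) (hx : x ^ l ^ a = 1)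
    {W : Submodule F (Fin n → F)} (hW : ∀ w ∈ W, act x w ∈ W) (hlt : finrank F W < e) : W ≤ fx x := by
  have h1 := dvd_dim hl he (by omega) hx hW
  have h2 : finrank F (W ⊓ fx x : Submodule F (Fin n → F)) ≤ finrank F W := Submodule.finrank_mono inf_le_left
  have h3 : finrank F W - finrank F (W ⊓ fx x : Submodule F (Fin n → F)) = 0 := by
    by_contra h
    have := Nat.le_of_dvd (by omega) h1
    omega
  have h4 : W ⊓ fx x = W := Submodule.eq_of_le_of_finrank_eq inf_le_left (by omega)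
  rw [← h4]
  exact inf_le_right

theorem fx_dim (hl : l.Prime) (he : orderOf ((Nat.card F : ℕ) : ZMod l) = e) (he0 : e ≠ 0) (hx : x ^ l ^ a = 1)
    (hx1 : x ≠ 1) : finrank F (fx x) + e ≤ n := by
  have h := (H524.LinReg.fx_top (rho n F q) hl rho_injective hx hx1 he he0).2
  rwa [H779.DP.fx_rho, finrank_fin_fun] at h

theorem nd_fx (hF : Fintype.card F = q ^ 2) (hl : l.Prime) (hlq : ¬ l ∣ q) (hx : x ^ l ^ a = 1) : ND q (fx x) := by
  have hlF : (l : F) ≠ 0 := Cfsg.Agent.H251.GeoU.natCast_ne hF hl hlq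
  have h := Cfsg.Agent.GpUn.nd_inf_fx hF (p := l ^ a) (by rw [Nat.cast_pow]; exact pow_ne_zero _ hlF)
    (Cfsg.Agent.GpUn.nd_top hF) hx (fun _ _ => trivial)
  rwa [top_inf_eq] at h

theorem fx_dim_neg (hF : Fintype.card F = q ^ 2) (hl : l.Prime) (hlq : ¬ l ∣ q) (hx : x ^ l = 1) (hx1 : x ≠ 1) :
    finrank F (fx x) + orderOf (-(q : ZMod l)) ≤ n := by
  have := Fact.mk hl
  have h1 : H951.Isom (hermForm n F q) (rho n F q x) := by
    intro u v
    rw [rho_apply, rho_apply]
    exact herm_act x u v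
  have h := Cfsg.Agent.H251.GeoU.fix_le hF hlq h1 (by rw [← map_pow, hx, map_one])
    (fun h => hx1 (rho_injective (by rw [h, map_one])))
  have h2 : H951.fx (rho n F q x) = fx x := by
    ext v
    rw [H951.mem_fx, rho_apply, mem_fx]
  rwa [h2] at h

end Dim

/-! ### restriction to the orthogonal complement of a nonsingular vector -/

theorem nd_perp_span (hF : Fintype.card F = q ^ 2) {w : Fin n → F} (hw : hermForm n F q w w ≠ 0) :
    ND q (F ∙ w) := by
  intro u hu h
  obtain ⟨c, rfl⟩ := Submodule.mem_span_singleton.1 hu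
  have h1 := h w (Submodule.mem_span_singleton_self w)
  rw [herm_smul_left] at h1
  rcases mul_eq_zero.1 h1 with h2 | h2
  · rw [h2, zero_smul]
  · exact absurd h2 hw

/-- the stabiliser of a nonsingular vector of `SU_(n+1)` is `SU_n` -/
theorem exists_iota (hF : Fintype.card F = q ^ 2) {w : Fin (n + 1) → F} (hw : hermForm (n + 1) F q w w ≠ 0) :
    ∃ ι : SU n F q →* SU (n + 1) F q, Function.Injective ι ∧ ∀ g, act g w = w ↔ g ∈ ι.range := by
  have hw0 : w ≠ 0 := by
    rintro rfl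
    exact hw (herm_zero_left _)
  have hnd := nd_perp_span hF hw
  set U := hermPerp q ((F ∙ w : Submodule F (Fin (n + 1) → F)) : Set (Fin (n + 1) → F)) with hU
  have hUnd : ND q U := hermPerp_nondeg hF (F ∙ w) hnd
  have hUd : finrank F U = n := by
    have h : finrank F (F ∙ w) + finrank F U = n + 1 := finrank_perp hF (F ∙ w)
    rw [finrank_span_singleton hw0] at h
    omega
  obtain ⟨e⟩ := exists_equiv hF U hUnd hUd
  refine ⟨(fixG q (hermPerp q (U : Set (Fin (n + 1) → F)))).subtype.comp e.toMonoidHom,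
    (Subgroup.subtype_injective _).comp e.injective, fun g => ?_⟩
  have hrange : ((fixG q (hermPerp q (U : Set (Fin (n + 1) → F)))).subtype.comp e.toMonoidHom).range =
      fixG q (hermPerp q (U : Set (Fin (n + 1) → F))) := by
    rw [MonoidHom.range_comp, MonoidHom.range_eq_top.2 e.surjective, ← MonoidHom.range_eq_map,
      Subgroup.range_subtype]
  rw [hrange, mem_fixG]
  constructor
  · intro hg v hv
    have hv' : v ∈ (F ∙ w : Submodule F (Fin (n + 1) → F)) := by
      by_contra hv2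
      have h1 : finrank F U + finrank F (hermPerp q (U : Set (Fin (n + 1) → F))) = n + 1 := finrank_perp hF U
      have h2 : (F ∙ w : Submodule F (Fin (n + 1) → F)) ≤ hermPerp q (U : Set (Fin (n + 1) → F)) := by
        intro z hz u hu
        have h3 : hermForm (n + 1) F q u z = 0 := hu z hz
        exact herm_eq_zero_swap hF h3
      have h3 : finrank F (F ∙ w) < finrank F (hermPerp q (U : Set (Fin (n + 1) → F))) :=
        Submodule.finrank_lt_finrank_of_lt (lt_of_le_of_ne h2 fun h => hv2 (h ▸ hv))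
      rw [finrank_span_singleton hw0] at h3
      omega
    obtain ⟨c, rfl⟩ := Submodule.mem_span_singleton.1 hv'
    rw [Cfsg.Agent.LieClassical.HermSiegel.act_smul, hg]
  · intro hg
    apply hg
    intro u hu
    have h3 : hermForm (n + 1) F q u w = 0 := hu w (Submodule.mem_span_singleton_self w)
    exact herm_eq_zero_swap hF h3

/-! ### fields -/

/-- prime divisors of the normaliser of a field -/
theorem NF.div (hF : Fintype.card F = q ^ 2) {A : Subgroup (SU n F q)} {r : ℕ} (hr : r.Prime) (hn : 0 < n) (h : NF A r)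
    {l e : ℕ} (hl : l.Prime) (hlq : ¬ l ∣ q) (hlr : l ≠ r) (he : orderOf ((Nat.card F : ℕ) : ZMod l) = e)
    (hd : l ∣ Nat.card A) : ∃ i, 1 ≤ i ∧ r * i ≤ n ∧ e ∣ r * i := by
  have hne : Nonempty (Fin n) := ⟨⟨0, hn⟩⟩
  obtain ⟨E, hE, hA⟩ := h
  have hfin : Finite (GL (Fin n) F) := inferInstance
  have h1 : l ∣ Nat.card (subalgebraNormalizer E) := by
    refine hd.trans ?_
    have h2 : A.map (toG n F q) ≤ subalgebraNormalizer E := by
      rintro _ ⟨g, hg, rfl⟩
      exact hA g hg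
    rw [← Subgroup.card_map_of_injective (K := A) (toG_injective (n := n) (F := F) (q := q))]
    exact Subgroup.card_dvd_of_le h2
  rcases Cfsg.Agent.H251.GeoCard.extension hr hE hl (Cfsg.Agent.H251.GeoU.not_dvd_card hF hl hlq) h1 with h2 | h2
  · exact absurd h2 hlr
  · obtain ⟨i, h3, h4, h5⟩ := h2
    rw [Fintype.card_fin] at h4
    have hq1 : 1 ≤ Nat.card F := Nat.card_pos
    refine ⟨i, h3, ?_, ?_⟩
    · calc r * i ≤ r * (n / r) := Nat.mul_le_mul_left _ h4
        _ ≤ n := Nat.mul_div_le n r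
    · rw [← pow_mul] at h5
      rw [← he]
      exact (Lib.Zsigmondy.dvd_pow_sub_one_iff hq1 _).1 h5

end Cfsg.Agent.H89.Reg
end

-- part: H89/Reg/Pair
section
/-!
# S3691, row `PSU_N(q)`: pairs of subgroups of `PSU_N(q)`
-/

set_option autoImplicit false
set_option linter.unusedSectionVars false

namespace Cfsg.Agent.H89.Reg

open Cfsg Cfsg.Geo Module Matrix
open Cfsg.Agent.LieClassical.HermBasic Cfsg.Agent.ClassicalGeometry.HermOrtho
open Cfsg.Agent.LieClassical.HermSiegel (act mat act_mul act_one act_inv_act act_act_inv herm_act)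
open Cfsg.Agent.H278.Cov Cfsg.Agent.H851.Dg
open Cfsg.Agent.GpUn (fx mem_fx ND fixG mem_fixG exists_equiv)
open Cfsg.Agent.H674.SUBlock (pr pr_surjective)
open Cfsg.Agent.H251.GeoU (nat_card_eq ord_sq_odd ord_sq_even)

variable {F : Type} [Field F] [Fintype F] {N q p f : ℕ}

/-- `X` contains the image of the stabiliser of a nonsingular vector -/
def Res {q : ℕ} (X : Subgroup (PSU N F q)) : Prop :=
  ∃ w : Fin N → F, hermForm N F q w w ≠ 0 ∧ ∀ g : SU N F q, act g w = w → pr g ∈ X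

/-- the intersections of the two factors with the socle -/
structure Pr (p f : ℕ) (X Y : Subgroup (PSU N F (p ^ f))) : Prop where
  neX : X ≠ ⊤
  neY : Y ≠ ⊤
  val : ∀ s : ℕ, s.Prime → s ≠ 2 → ¬ s ∣ f → ¬ s ∣ p ^ f + 1 →
    (Nat.card X).factorization s + (Nat.card Y).factorization s = (Nat.card (PSU N F (p ^ f))).factorization s
  cyc : ∀ s : ℕ, s.Prime → CycP s (PSU N F (p ^ f)) → s ∣ Nat.card X → s ∣ Nat.card Y → False

theorem Pr.symm {X Y : Subgroup (PSU N F (p ^ f))} (h : Pr p f X Y) : Pr p f Y X :=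
  ⟨h.neY, h.neX, fun s h1 h2 h3 h4 => by rw [add_comm]; exact h.val s h1 h2 h3 h4, fun s h1 h2 h3 h4 => h.cyc s h1 h2 h4 h3⟩

instance finite_psu : Finite (PSU N F q) := Quotient.finite _

theorem comap_ne_top {X : Subgroup (PSU N F q)} (h : X ≠ ⊤) : X.comap pr ≠ ⊤ := by
  intro h1
  apply h
  rw [eq_top_iff]
  intro x _
  obtain ⟨y, rfl⟩ := pr_surjective x
  have : y ∈ X.comap pr := by rw [h1]; trivial
  exact this

theorem card_dvd_comap (X : Subgroup (PSU N F q)) : Nat.card X ∣ Nat.card (X.comap (pr : SU N F q →* _)) := by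
  have h1 : (X.comap (pr : SU N F q →* _)).map pr = X := Subgroup.map_comap_eq_self_of_surjective pr_surjective X
  have h2 := Subgroup.card_dvd_of_surjective ((pr : SU N F q →* _).subgroupMap (X.comap pr))
    (MonoidHom.subgroupMap_surjective _ _)
  rwa [h1] at h2

/-- an element of prime order -/
theorem exists_elt {A : Subgroup (SU N F q)} {s : ℕ} (hs : s.Prime) (h : s ∣ Nat.card A) :
    ∃ g ∈ A, g ^ s = 1 ∧ g ≠ 1 ∧ orderOf g = s := by
  have := Fact.mk hs
  obtain ⟨g, hg⟩ := exists_prime_orderOf_dvd_card' s h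
  have h1 : orderOf (g : SU N F q) = s := by rw [Subgroup.orderOf_coe]; exact hg
  refine ⟨g, g.2, by rw [← h1, pow_orderOf_eq_one], ?_, h1⟩
  intro h2
  rw [h2, orderOf_one] at h1
  exact hs.one_lt.ne h1

theorem exists_elt_pr {X : Subgroup (PSU N F q)} {s : ℕ} (hs : s.Prime) (h : s ∣ Nat.card X) :
    ∃ g ∈ X.comap (pr : SU N F q →* _), g ^ s = 1 ∧ g ≠ 1 ∧ orderOf g = s :=
  exists_elt hs (h.trans (card_dvd_comap X))

theorem lift_order {X : Subgroup (PSU N F q)} {x : PSU N F q} (hx : x ∈ X) {m : ℕ} (hm : orderOf x = m) (hm0 : 0 < m) :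
    ∃ y ∈ X.comap (pr : SU N F q →* _), orderOf y = m := by
  obtain ⟨y, rfl⟩ := pr_surjective x
  have h1 : m ∣ orderOf y := by rw [← hm]; exact orderOf_map_dvd _ _
  refine ⟨y ^ (orderOf y / m), Subgroup.pow_mem _ hx _, orderOf_pow_orderOf_div (orderOf_pos y).ne' h1⟩

/-! ### orders -/

theorem Pm.card_ord {k l : ℕ} (h : Pm p f k l) (hp : p.Prime) (hf : 1 ≤ f) (hk : 1 ≤ k) (hodd : Odd k)
    (hF : Fintype.card F = (p ^ f) ^ 2) : orderOf ((Nat.card F : ℕ) : ZMod l) = k := by
  rw [nat_card_eq hF]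
  exact ord_sq_odd (h.ord hp hf hk hodd) hodd

theorem Ev.card_ord {n s : ℕ} (h : Ev p f n s) (hn : Even n) (hF : Fintype.card F = (p ^ f) ^ 2) :
    orderOf ((Nat.card F : ℕ) : ZMod s) = n / 2 := by
  rw [nat_card_eq hF]
  exact ord_sq_even h.ord hn

theorem Pm.dvd_psu {k l : ℕ} (h : Pm p f k l) (hp : p.Prime) (hf : 1 ≤ f) (hk : 2 ≤ k) (hodd : Odd k) (hkN : k ≤ N)
    (hF : Fintype.card F = (p ^ f) ^ 2) : l ∣ Nat.card (PSU N F (p ^ f)) :=
  H149.PGU.dvd_card_psu hF (by omega) h.pr hk hkN (h.ord hp hf (by omega) hodd)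

theorem Ev.dvd_psu {n s : ℕ} (h : Ev p f n s) (hn : 2 ≤ n) (hnN : n ≤ N)
    (hF : Fintype.card F = (p ^ f) ^ 2) : s ∣ Nat.card (PSU N F (p ^ f)) :=
  H149.PGU.dvd_card_psu hF (by omega) h.pr hn hnN h.ord

/-- prime powers dividing `q ^ (i + 1) - (-1) ^ (i + 1)` divide `|PSU_N(q)|` -/
theorem pow_dvd_psu (hF : Fintype.card F = q ^ 2) {l v i : ℕ} (hl : l.Prime) (hlq : ¬ l ∣ q + 1) (hi : i < N) (hN : 2 ≤ N)
    (h : l ^ v ∣ (if Even i then q ^ (i + 1) + 1 else q ^ (i + 1) - 1)) : l ^ v ∣ Nat.card (PSU N F q) := by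
  have h0 := S0280.result (F := F) hF N hN
  have h1 : l ^ v ∣ Nat.gcd N (q + 1) * ((q + 1) * Nat.card (PSU N F q)) := by
    rw [h0]
    refine Dvd.dvd.mul_left ?_ _
    exact h.trans (Finset.dvd_prod_of_mem (fun i => if Even i then q ^ (i + 1) + 1 else q ^ (i + 1) - 1)
      (Finset.mem_range.2 hi))
  have hc : Nat.Coprime (l ^ v) (q + 1) := Nat.Coprime.pow_left _ ((Nat.Prime.coprime_iff_not_dvd hl).2 hlq)
  have hc2 : Nat.Coprime (l ^ v) (Nat.gcd N (q + 1)) := Nat.Coprime.coprime_dvd_right (Nat.gcd_dvd_right _ _) hc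
  exact hc.dvd_of_dvd_mul_left (hc2.dvd_of_dvd_mul_left h1)

/-- the full cyclic Sylow subgroup -/
theorem exists_full_elt {X Y : Subgroup (PSU N F (p ^ f))} (h : Pr p f X Y) (hp : p.Prime) (hf : 1 ≤ f)
    (hF : Fintype.card F = (p ^ f) ^ 2) (hN : 3 ≤ N) {k l : ℕ} (hl : Gd p f k l) (hodd : Odd k) (hk : 2 ≤ k) (hkN : k ≤ N)
    (hNk : N < 2 * k) (hd : l ∣ Nat.card X) :
    ∃ x ∈ X.comap (pr : SU N F (p ^ f) →* _), orderOf x = l ^ ((p ^ f) ^ k + 1).factorization l := by
  have hord := hl.toPm.ord hp hf (by omega) hodd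
  have hcyc : CycP l (PSU N F (p ^ f)) := H953.Dg.cyc_psu hF hN ⟨hl.pr, by rw [hord]; exact hNk, by rw [hord]; exact hkN⟩
  have hnY : ¬ l ∣ Nat.card Y := fun h1 => h.cyc l hl.pr hcyc hd h1
  have hval := h.val l hl.pr (hl.toPm.ne_two hp hf (by omega)) (hl.toPm.not_dvd_f hp hf (by omega))
    (hl.toPm.not_dvd_succ hf hk)
  rw [Nat.factorization_eq_zero_of_not_dvd hnY, add_zero] at hval
  set v := ((p ^ f) ^ k + 1).factorization l with hv
  have h1 : l ^ v ∣ Nat.card (PSU N F (p ^ f)) := by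
    refine pow_dvd_psu hF hl.pr (hl.toPm.not_dvd_succ hf hk) (i := k - 1) (by omega) (by omega) ?_
    have hev : Even (k - 1) := by
      obtain ⟨c, hc⟩ := hodd
      exact ⟨c, by omega⟩
    rw [if_pos hev, Nat.sub_add_cancel (by omega)]
    exact Nat.ordProj_dvd _ _
  have h2 : l ^ v ∣ Nat.card X := by
    rw [hl.pr.pow_dvd_iff_le_factorization Nat.card_pos.ne', hval,
      ← hl.pr.pow_dvd_iff_le_factorization Nat.card_pos.ne']
    exact h1
  have := Fact.mk hl.pr
  obtain ⟨K, hK⟩ := Sylow.exists_subgroup_card_pow_prime l h2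
  have hKp : IsPGroup l (K.map X.subtype) := by
    rw [IsPGroup.iff_card]
    exact ⟨v, by rw [Subgroup.card_map_of_injective X.subtype_injective, hK]⟩
  have hKc := hcyc _ hKp
  obtain ⟨g, hg⟩ := IsCyclic.exists_generator (α := K.map X.subtype)
  have hgo : orderOf (g : PSU N F (p ^ f)) = l ^ v := by
    rw [Subgroup.orderOf_coe, orderOf_eq_card_of_forall_mem_zpowers hg,
      Subgroup.card_map_of_injective X.subtype_injective, hK]
  have hgX : (g : PSU N F (p ^ f)) ∈ X := by
    obtain ⟨y, -, hy⟩ := g.2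
    rw [← hy]
    exact y.2
  exact lift_order hgX hgo (pow_pos hl.pr.pos _)

/-- a prime not dividing the first factor divides the second -/
theorem Pr.other {X Y : Subgroup (PSU N F (p ^ f))} (h : Pr p f X Y) {s : ℕ} (hs : s.Prime) (h2 : s ≠ 2) (hf : ¬ s ∣ f)
    (hq : ¬ s ∣ p ^ f + 1) (hd : s ∣ Nat.card (PSU N F (p ^ f))) (hX : ¬ s ∣ Nat.card (X.comap (pr : SU N F (p ^ f) →* _))) :
    s ∣ Nat.card Y := by
  have h1 := h.val s hs h2 hf hq
  rw [Nat.factorization_eq_zero_of_not_dvd fun h3 => hX (h3.trans (card_dvd_comap X)), zero_add] at h1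
  have h3 := (hs.dvd_iff_one_le_factorization Nat.card_pos.ne').1 hd
  rw [← h1] at h3
  exact (hs.dvd_iff_one_le_factorization Nat.card_pos.ne').2 h3

theorem Pr.other_pm {X Y : Subgroup (PSU N F (p ^ f))} (h : Pr p f X Y) (hp : p.Prime) (hf : 1 ≤ f)
    (hF : Fintype.card F = (p ^ f) ^ 2) {k l : ℕ} (hl : Pm p f k l) (hk : 2 ≤ k) (hodd : Odd k) (hkN : k ≤ N)
    (hX : ¬ l ∣ Nat.card (X.comap (pr : SU N F (p ^ f) →* _))) : l ∣ Nat.card Y :=
  h.other hl.pr (hl.ne_two hp hf (by omega)) (hl.not_dvd_f hp hf (by omega)) (hl.not_dvd_succ hf hk)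
    (hl.dvd_psu hp hf hk hodd hkN hF) hX

theorem Pr.other_ev {X Y : Subgroup (PSU N F (p ^ f))} (h : Pr p f X Y)
    (hF : Fintype.card F = (p ^ f) ^ 2) {n s : ℕ} (hs : Ev p f n s) (hn : 2 ≤ n) (hnN : n ≤ N)
    (hX : ¬ s ∣ Nat.card (X.comap (pr : SU N F (p ^ f) →* _))) : s ∣ Nat.card Y :=
  h.other hs.pr hs.ne_two hs.not_dvd_f (hs.not_dvd_succ hn) (hs.dvd_psu hn hnN hF) hX

/-- a good prime divides one of the factors -/
theorem Pr.one {X Y : Subgroup (PSU N F (p ^ f))} (h : Pr p f X Y) (hp : p.Prime) (hf : 1 ≤ f)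
    (hF : Fintype.card F = (p ^ f) ^ 2) {k l : ℕ} (hl : Pm p f k l) (hk : 2 ≤ k) (hodd : Odd k) (hkN : k ≤ N) :
    l ∣ Nat.card X ∨ l ∣ Nat.card Y := by
  have h1 := h.val l hl.pr (hl.ne_two hp hf (by omega)) (hl.not_dvd_f hp hf (by omega)) (hl.not_dvd_succ hf hk)
  have h3 := (hl.pr.dvd_iff_one_le_factorization Nat.card_pos.ne').1 (hl.dvd_psu hp hf hk hodd hkN hF)
  rw [hl.pr.dvd_iff_one_le_factorization Nat.card_pos.ne', hl.pr.dvd_iff_one_le_factorization Nat.card_pos.ne']
  omega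

/-! ### points -/

/-- a nondegenerate line is spanned by a nonsingular vector -/
theorem exists_span {W : Submodule F (Fin N → F)} (h1 : finrank F W = 1) (hW : ND q W) :
    ∃ w : Fin N → F, hermForm N F q w w ≠ 0 ∧ w ∈ W := by
  obtain ⟨w, hw0, hw⟩ := finrank_eq_one_iff'.1 h1
  refine ⟨w, fun h => ?_, w.2⟩
  apply hw0
  apply Subtype.ext
  apply hW w w.2
  intro v hv
  obtain ⟨c, hc⟩ := hw ⟨v, hv⟩
  have h2 : v = c • (w : Fin N → F) := (congrArg Subtype.val hc).symm
  rw [h2, herm_smul_right, h, mul_zero]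

end Cfsg.Agent.H89.Reg
end

-- part: H89/Reg/Even
section
/-!
# S3691, row `PSU_N(q)`, `N ≥ 12` even
-/

set_option autoImplicit false
set_option linter.unusedSectionVars false

namespace Cfsg.Agent.H89.Reg

open Cfsg Cfsg.Geo Module Matrix
open Cfsg.Agent.LieClassical.HermBasic Cfsg.Agent.ClassicalGeometry.HermOrtho
open Cfsg.Agent.LieClassical.HermSiegel (act mat act_mul act_one act_inv_act act_act_inv herm_act)
open Cfsg.Agent.H278.Cov Cfsg.Agent.H851.Dg
open Cfsg.Agent.GpUn (fx mem_fx ND fixG mem_fixG exists_equiv)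
open Cfsg.Agent.H674.SUBlock (pr pr_surjective)
open Cfsg.Agent.H251.GeoU (nat_card_eq ord_sq_odd ord_sq_even)

variable {F : Type} [Field F] [Fintype F] {n p f : ℕ}

theorem dvd_sub_of_gcd {r n k : ℕ} (h : r ∣ Nat.gcd n k) : r ∣ n - k :=
  Nat.dvd_sub (h.trans (Nat.gcd_dvd_left _ _)) (h.trans (Nat.gcd_dvd_right _ _))

theorem pow_full {q : ℕ} {x : SU n F q} {l v : ℕ} (h : orderOf x = l ^ v) : x ^ l ^ v = 1 := by
  rw [← h, pow_orderOf_eq_one]

theorem ne_one_of_num {q : ℕ} {x : SU n F q} {m k : ℕ} (h : Num (q ^ 2) m k (orderOf x)) : x ≠ 1 := by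
  rintro rfl
  have := h.big
  rw [orderOf_one] at this
  omega

/-- `s`-elements fix the vectors of the invariant lines -/
theorem fix_of_line {q : ℕ} {l e a : ℕ} (hl : l.Prime) (he : orderOf ((Nat.card F : ℕ) : ZMod l) = e) (he1 : 1 < e)
    {A : Subgroup (SU n F q)} {W : Submodule F (Fin n → F)} (hW : InvA A W) (h1 : finrank F W = 1) {g : SU n F q}
    (hg : g ∈ A) (hgl : g ^ l ^ a = 1) {w : Fin n → F} (hw : w ∈ W) : act g w = w :=
  le_fx hl he hgl (hW g hg) (by omega) hw

/-- the even case, the factor containing the primes of order `n = N - 1` -/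
theorem even_case (hP : Cfsg.Agent.H659.CovCore.S5948Stmt.{0}) (hp : p.Prime) (hf : 1 ≤ f)
    (hF : Fintype.card F = (p ^ f) ^ 2) (hn : 11 ≤ n) (hodd : Odd n) {X Y : Subgroup (PSU (n + 1) F (p ^ f))}
    (h : Pr p f X Y) {l : ℕ} (hl : Gd p f n l) (hd : l ∣ Nat.card X) : Res X := by
  obtain ⟨c, hc⟩ := hodd
  have hodd : Odd n := ⟨c, hc⟩
  have hfin : Finite (SU (n + 1) F (p ^ f)) := inferInstance
  set H := X.comap (pr : SU (n + 1) F (p ^ f) →* _) with hH
  have hHt : H ≠ ⊤ := comap_ne_top h.neX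
  obtain ⟨x, hx, hxo⟩ := exists_full_elt h hp hf hF (by omega) hl hodd (by omega) (by omega) (by omega) hd
  have hnum : Num ((p ^ f) ^ 2) (n + 1) n (orderOf x) := by
    rw [hxo]; exact hl.num hp hf (by omega) (by omega) (by omega)
  have hxp := pow_full hxo
  have hx1 : x ≠ 1 := ne_one_of_num hnum
  have hlo := hl.toPm.card_ord hp hf (by omega) hodd hF
  have hlq := hl.toPm.not_dvd_q hp hf (by omega)
  -- the first factor fixes a nonsingular point
  obtain ⟨W, hW1, hW2, hWH⟩ : ∃ W : Submodule F (Fin (n + 1) → F), 1 ≤ finrank F W ∧ 2 * finrank F W ≤ n + 1 ∧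
      InvA H W := by
    rcases ogs hP hF hHt hx hnum with ⟨W, h0, h1, h2⟩ | ⟨r, hr, hrd, -⟩
    · exact exists_small hF h0 h1 h2
    · exfalso
      have h2 := dvd_sub_of_gcd hrd
      rw [show n + 1 - n = 1 by omega] at h2
      exact hr.one_lt.ne' (Nat.dvd_one.1 h2)
  have hWfx : W ≤ fx x := le_fx hl.pr hlo hxp (hWH x hx) (by omega)
  have hfd := fx_dim hl.pr hlo (by omega) hxp hx1
  have hWd : finrank F W = 1 := by
    have := Submodule.finrank_mono hWfx
    omega
  have hWeq : W = fx x := Submodule.eq_of_le_of_finrank_le hWfx (by omega)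
  have hnd : ND (p ^ f) W := by rw [hWeq]; exact nd_fx hF hl.pr hlq hxp
  obtain ⟨w, hww, hwW⟩ := exists_span hWd hnd
  obtain ⟨ι, hι, hιr⟩ := exists_iota hF hww
  by_cases hB : H.comap ι = ⊤
  · refine ⟨w, hww, fun g hg => ?_⟩
    obtain ⟨y, rfl⟩ := (hιr g).1 hg
    have : y ∈ H.comap ι := by rw [hB]; trivial
    exact this
  exfalso
  obtain ⟨y, rfl⟩ := (hιr x).1 (hWfx hwW)
  have hyo : orderOf (ι y) = orderOf y := orderOf_injective ι hι y
  have hyp : y ^ l ^ ((p ^ f) ^ n + 1).factorization l = 1 := pow_full (by rw [← hyo, hxo])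
  have hy1 : y ≠ 1 := by
    rintro rfl
    exact hx1 (map_one ι)
  have hnumy : Num ((p ^ f) ^ 2) n n (orderOf y) := by
    rw [← hyo, hxo]; exact hl.num hp hf (by omega) (by omega) (by omega)
  -- the restriction normalises a field
  obtain ⟨r, hr, hrn, hNF⟩ : ∃ r, r.Prime ∧ r ∣ n ∧ NF (H.comap ι) r := by
    rcases ogs hP hF hB (x := y) hx hnumy with ⟨W', h0, h1, h2⟩ | ⟨r, hr, hrd, h3⟩
    · exfalso
      obtain ⟨W'', h3, h4, h5⟩ := exists_small hF h0 h1 h2
      have h6 := Submodule.finrank_mono (le_fx hl.pr hlo hyp (h5 y hx) (by omega))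
      have h7 := fx_dim hl.pr hlo (by omega) hyp hy1
      omega
    · rw [Nat.gcd_self] at hrd
      exact ⟨r, hr, hrd, h3⟩
  have hr2 : r ≠ 2 := by
    rintro rfl
    omega
  have hrle : r ≤ n := Nat.le_of_dvd (by omega) hrn
  have key : ∀ {k s : ℕ}, Odd k → n < 2 * k → ¬ r ∣ k → Pm p f k s → ¬ s ∣ Nat.card H := by
    intro k s hk hnk hrk hs hsd
    obtain ⟨g, hg, hgs, hg1, hgo⟩ := exists_elt hs.pr hsd
    have hso := hs.card_ord hp hf (by omega) hk hF
    have hgw := fix_of_line (a := 1) hs.pr hso (by omega) hWH hWd hg (by rw [pow_one]; exact hgs) hwW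
    obtain ⟨z, rfl⟩ := (hιr g).1 hgw
    have hz : s ∣ Nat.card (H.comap ι) := by
      rw [orderOf_injective ι hι] at hgo
      rw [← hgo]
      exact Subgroup.orderOf_dvd_natCard _ hg
    have hslt := hs.lt hp hf (by omega)
    have hkf : 2 * k * 1 ≤ 2 * k * f := Nat.mul_le_mul_left _ hf
    obtain ⟨i, hi1, hi2, hi3⟩ := hNF.div hF hr (by omega) hs.pr (hs.not_dvd_q hp hf (by omega)) (by omega) hso hz
    obtain ⟨d, hd⟩ := hi3
    have hd1 : d = 1 := by
      rcases d with _ | _ | d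
      · have := hr.pos
        rw [mul_zero] at hd
        rcases Nat.mul_eq_zero.1 hd with h | h <;> omega
      · rfl
      · have : k * 2 ≤ k * (d + 1 + 1) := Nat.mul_le_mul_left _ (by omega)
        omega
    rw [hd1, mul_one] at hd
    exact hrk ⟨i, hd.symm⟩
  have h2 : ¬ r ∣ n - 2 := by
    intro h1
    have h3 := Nat.dvd_sub hrn h1
    rw [show n - (n - 2) = 2 by (clear * - hn; omega)] at h3
    exact hr2 ((Nat.prime_dvd_prime_iff_eq hr Nat.prime_two).1 h3)
  have h4 : ¬ r ∣ n - 4 := by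
    intro h1
    have h3 := Nat.dvd_sub hrn h1
    rw [show n - (n - 4) = 2 ^ 2 by (clear * - hn; omega)] at h3
    exact hr2 ((Nat.prime_dvd_prime_iff_eq hr Nat.prime_two).1 (hr.dvd_of_dvd_pow h3))
  have ho2 : Odd (n - 2) := ⟨c - 1, by omega⟩
  have ho4 : Odd (n - 4) := ⟨c - 2, by omega⟩
  -- the primes of the second factor
  have hY2 : ∀ {s : ℕ}, Pm p f (n - 2) s → s ∣ Nat.card Y := fun hs =>
    h.other_pm hp hf hF hs (by omega) ho2 (by omega) (key ho2 (by omega) h2 hs)
  have hY4 : ∀ {s : ℕ}, Pm p f (n - 4) s → s ∣ Nat.card Y := fun hs =>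
    h.other_pm hp hf hF hs (by omega) ho4 (by omega) (key ho4 (by omega) h4 hs)
  obtain ⟨t, ht⟩ := exists_ev (p := p) (f := f) (n := n + 1) hp hf (by omega)
  have hev : Even (n + 1) := ⟨c + 1, by omega⟩
  have hto := ht.card_ord hev hF
  have htq : ¬ t ∣ p ^ f := Cfsg.Agent.H251.GeoU.not_dvd_of_ord ht.pr ht.ord (by omega)
  have htY : t ∣ Nat.card Y := by
    refine h.other_ev hF ht (by omega) le_rfl fun htd => ?_
    obtain ⟨g, hg, hgs, hg1, -⟩ := exists_elt ht.pr htd
    have h5 : W ≤ fx g := le_fx (a := 1) ht.pr hto (by rw [pow_one]; exact hgs) (hWH g hg) (by omega)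
    have h6 := fx_dim_neg hF ht.pr htq hgs hg1
    rw [ht.ord] at h6
    have := Submodule.finrank_mono h5
    omega
  -- the second factor
  obtain ⟨k', hk'o, hk', l', hl'⟩ : ∃ k', Odd k' ∧ (k' = n - 2 ∧ n ≠ 11 ∨ k' = 7 ∧ n = 11) ∧ ∃ l', Gd p f k' l' := by
    by_cases h11 : n = 11
    · exact ⟨7, by decide, Or.inr ⟨rfl, h11⟩, exists_gd hp hf (by omega) (by decide) (by omega)⟩
    · exact ⟨n - 2, ho2, Or.inl ⟨rfl, h11⟩, exists_gd hp hf (by (clear * - hn; omega)) ho2 (by (clear * - h11; omega))⟩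
  have hl'Y : l' ∣ Nat.card Y := by
    rcases hk' with ⟨rfl, -⟩ | ⟨rfl, rfl⟩
    · exact hY2 hl'.toPm
    · exact hY4 hl'.toPm
  obtain ⟨x', hx', hxo'⟩ := exists_full_elt h.symm hp hf hF (by (clear * - hn; omega)) hl' hk'o (by (clear * - hn hk'; omega)) (by (clear * - hk'; omega)) (by (clear * - hn hk'; omega)) hl'Y
  have hnum' : Num ((p ^ f) ^ 2) (n + 1) k' (orderOf x') := by
    rw [hxo']; exact hl'.num hp hf (by omega) (by (clear * - hk'; omega)) (by (clear * - hn hk'; omega))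
  rcases ogs hP hF (comap_ne_top h.neY) hx' hnum' with ⟨W', h0, h1, h3⟩ | ⟨r', hr', hrd', hNF'⟩
  · obtain ⟨W'', g1, g2, g3⟩ := exists_small hF h0 h1 h3
    obtain ⟨z, hz, hzt, hz1, -⟩ := exists_elt_pr ht.pr htY
    have h6 := fx_dim_neg hF ht.pr htq hzt hz1
    rw [ht.ord] at h6
    have h7 := dvd_dim (a := 1) ht.pr hto (by omega) (by rw [pow_one]; exact hzt) (g3 z hz)
    have h8 : finrank F (W'' ⊓ fx z : Submodule F (Fin (n + 1) → F)) ≤ finrank F (fx z) :=
      Submodule.finrank_mono inf_le_right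
    have h9 := Nat.le_of_dvd (by omega) h7
    obtain ⟨s, hs⟩ := exists_pm (p := p) (f := f) (k := n - 2) hp hf (by (clear * - hn; omega)) ho2
    obtain ⟨y2, hy2, hys, hy21, -⟩ := exists_elt_pr hs.pr (hY2 hs)
    have hso := hs.card_ord hp hf (by omega) ho2 hF
    have h10 := Submodule.finrank_mono (le_fx (a := 1) hs.pr hso (by rw [pow_one]; exact hys) (g3 y2 hy2) (by (clear * - hn g2; omega)))
    have h11 := fx_dim (a := 1) hs.pr hso (by omega) (by rw [pow_one]; exact hys) hy21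
    (clear * - hn h9 h10 h11; omega)
  · rcases hk' with ⟨rfl, hn11⟩ | ⟨rfl, rfl⟩
    · have h5 := dvd_sub_of_gcd hrd'
      rw [show n + 1 - (n - 2) = 3 by (clear * - hn; omega)] at h5
      have h6 : r' = 3 := (Nat.prime_dvd_prime_iff_eq hr' Nat.prime_three).1 h5
      subst h6
      have h7 : 3 ∣ n + 1 := hrd'.trans (Nat.gcd_dvd_left _ _)
      obtain ⟨s, hs⟩ := exists_pm (p := p) (f := f) (k := n - 4) hp hf (by (clear * - hn; omega)) ho4
      have hslt := hs.lt hp hf (by (clear * - hn; omega))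
      have hkf : 2 * (n - 4) * 1 ≤ 2 * (n - 4) * f := Nat.mul_le_mul_left _ hf
      obtain ⟨i, hi1, hi2, hi3⟩ := hNF'.div hF hr' (by (clear * -; omega)) hs.pr (hs.not_dvd_q hp hf (by (clear * - hn; omega))) (by (clear * - hn hslt hkf; omega))
        (hs.card_ord hp hf (by (clear * - hn; omega)) ho4 hF) ((hY4 hs).trans (card_dvd_comap Y))
      obtain ⟨d, hd⟩ := hi3
      have hd1 : d = 1 := by
        rcases d with _ | _ | d
        · omega
        · rfl
        · have : (n - 4) * 2 ≤ (n - 4) * (d + 1 + 1) := Nat.mul_le_mul_left _ (by omega)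
          (clear * - hn hi2 hd this; omega)
      rw [hd1, mul_one] at hd
      (clear * - hc h7 hd; omega)
    · have h5 : Nat.gcd (11 + 1) 7 = 1 := by norm_num
      rw [h5] at hrd'
      exact hr'.one_lt.ne' (Nat.dvd_one.1 hrd')

end Cfsg.Agent.H89.Reg
end

-- part: H89/Reg/Odd
section
/-!
# S3691, row `PSU_N(q)`, `N ≥ 11` odd
-/

set_option autoImplicit false
set_option linter.unusedSectionVars false

namespace Cfsg.Agent.H89.Reg

open Cfsg Cfsg.Geo Module Matrix
open Cfsg.Agent.LieClassical.HermBasic Cfsg.Agent.ClassicalGeometry.HermOrtho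
open Cfsg.Agent.LieClassical.HermSiegel (act mat act_mul act_one act_inv_act act_act_inv herm_act)
open Cfsg.Agent.H278.Cov Cfsg.Agent.H851.Dg
open Cfsg.Agent.GpUn (fx mem_fx ND fixG mem_fixG exists_equiv)
open Cfsg.Agent.H674.SUBlock (pr pr_surjective)
open Cfsg.Agent.H251.GeoU (nat_card_eq ord_sq_odd ord_sq_even)

variable {F : Type} [Field F] [Fintype F] {n p f : ℕ}

/-- the normaliser of a field of full prime degree -/
theorem NF.card_full {q : ℕ} (hF : Fintype.card F = q ^ 2) (hn : 0 < n) {A : Subgroup (SU n F q)} (h : NF A n) :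
    Nat.card A ∣ n * (q ^ (2 * n) - 1) := by
  classical
  obtain ⟨K, hK, hA⟩ := h
  have hne : Nonempty (Fin n) := ⟨⟨0, hn⟩⟩
  have hfin : Finite (GL (Fin n) F) := inferInstance
  have hN : H912.NormAlg (subalgebraNormalizer K) K := fun _ hh a ha => (hh a).mp ha
  let _ : Field K := (H912.isField_of_fieldSub hK).toField
  have hfd : Module.Finite F K := inferInstance
  have hKfin : Finite K := Module.finite_of_finite F
  have hgal : IsGalois F K := inferInstance
  let φ : subalgebraNormalizer K →* (K ≃ₐ[F] K) :=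
    { toFun := fun h => H912.conjSub hN h
      map_one' := by
        apply AlgEquiv.ext
        intro x
        apply Subtype.ext
        rw [H912.conjSub_coe]
        simp only [_root_.OneMemClass.coe_one, _root_.Units.val_one, _root_.one_mul, _root_.inv_one, _root_.mul_one, _root_.AlgEquiv.one_apply]
      map_mul' := fun a b => by
        apply AlgEquiv.ext
        intro x
        apply Subtype.ext
        rw [AlgEquiv.mul_apply, H912.conjSub_coe, H912.conjSub_coe, H912.conjSub_coe, Subgroup.coe_mul,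
          _root_.mul_inv_rev, Units.val_mul, Units.val_mul]
        simp only [Matrix.mul_assoc] }
  have hker : Nat.card φ.ker ∣ q ^ (2 * n) - 1 := by
    have hmem : ∀ g : φ.ker, (((g : subalgebraNormalizer K) : GL (Fin n) F) : Matrix (Fin n) (Fin n) F) ∈ K := by
      intro g
      apply H922.mem_of_commute (by rwa [Fintype.card_fin]) (by rwa [Fintype.card_fin])
      intro k hk
      have h1 : (H912.conjSub hN (g : subalgebraNormalizer K)) = 1 := g.2
      have h2 := H912.conjSub_coe hN (g : subalgebraNormalizer K) ⟨k, hk⟩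
      rw [h1] at h2
      change k = _ at h2
      conv_rhs => rw [h2]
      rw [Matrix.mul_assoc, ← Units.val_mul, inv_mul_cancel, Units.val_one, Matrix.mul_one]
    let ψ0 : φ.ker →* K :=
      { toFun := fun g => ⟨_, hmem g⟩
        map_one' := rfl
        map_mul' := fun a b => rfl }
    have hinj : Function.Injective ψ0.toHomUnits := by
      intro a b hab
      apply Subtype.ext
      apply Subtype.ext
      apply Units.ext
      exact congrArg (fun z : Kˣ => ((z : K) : Matrix (Fin n) (Fin n) F)) hab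
    have h1 := Subgroup.card_dvd_of_injective ψ0.toHomUnits hinj
    have h2 : Nat.card K = q ^ (2 * n) := by
      rw [Module.natCard_eq_pow_finrank (K := F), hK.finrank_eq, Nat.card_eq_fintype_card, hF, ← pow_mul]
    rwa [Nat.card_units, h2] at h1
  have hran : Nat.card φ.range ∣ n := by
    have h1 : Nat.card (K ≃ₐ[F] K) = n := by
      rw [IsGalois.card_aut_eq_finrank, hK.finrank_eq]
    exact (Subgroup.card_subgroup_dvd_card φ.range).trans h1.dvd
  have h1 := Subgroup.card_eq_card_quotient_mul_card_subgroup φ.ker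
  have h2 : Nat.card (subalgebraNormalizer K ⧸ φ.ker) = Nat.card φ.range :=
    Nat.card_congr (QuotientGroup.quotientKerEquivRange φ).toEquiv
  have h3 : Nat.card A ∣ Nat.card (subalgebraNormalizer K) := by
    have h2 : A.map (Cfsg.Agent.H809.SelfCent.toG n F q) ≤ subalgebraNormalizer K := by
      rintro _ ⟨g, hg, rfl⟩
      exact hA g hg
    rw [← Subgroup.card_map_of_injective (K := A) (Cfsg.Agent.H809.SelfCent.toG_injective (n := n) (F := F) (q := q))]
    exact Subgroup.card_dvd_of_le h2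
  refine h3.trans ?_
  rw [h1, h2]
  exact mul_dvd_mul hran hker

/-- the primes of the second factor -/
theorem odd_primes (hp : p.Prime) (hf : 1 ≤ f) (hF : Fintype.card F = (p ^ f) ^ 2) (hn : 10 ≤ n) (hev : Even n)
    {X Y : Subgroup (PSU (n + 1) F (p ^ f))} (h : Pr p f X Y) {r : ℕ} (hr : r.Prime) (hrn : r ∣ n + 1)
    (hNF : NF (X.comap (pr : SU (n + 1) F (p ^ f) →* _)) r) {k s : ℕ} (hk : k = n - 1 ∨ k = n - 3)
    (hs : Pm p f k s) : s ∣ Nat.card Y := by
  obtain ⟨c, hc⟩ := hev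
  have hr2 : r ≠ 2 := by
    rintro rfl
    omega
  have hodd : Odd k := by
    rcases hk with rfl | rfl
    · exact ⟨c - 1, by omega⟩
    · exact ⟨c - 2, by omega⟩
  refine h.other_pm hp hf hF hs (by omega) hodd (by omega) fun hsd => ?_
  have hslt := hs.lt hp hf (by omega)
  have hkf : 2 * k * 1 ≤ 2 * k * f := Nat.mul_le_mul_left _ hf
  have hrle : r ≤ n + 1 := Nat.le_of_dvd (by omega) hrn
  obtain ⟨i, hi1, hi2, hi3⟩ := hNF.div hF hr (by omega) hs.pr (hs.not_dvd_q hp hf (by omega)) (by (clear * - hn hk hslt hkf hrle; omega))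
    (hs.card_ord hp hf (by omega) hodd hF) hsd
  obtain ⟨d, hd⟩ := hi3
  have hd1 : d = 1 := by
    rcases d with _ | _ | d
    · have := hr.pos
      rw [mul_zero] at hd
      rcases Nat.mul_eq_zero.1 hd with h | h <;> omega
    · rfl
    · have : k * 2 ≤ k * (d + 1 + 1) := Nat.mul_le_mul_left _ (by omega)
      (clear * - hn hk hi2 hd this; omega)
  rw [hd1, mul_one] at hd
  have h3 := Nat.dvd_sub hrn ⟨i, hd.symm⟩
  rcases hk with rfl | rfl
  · rw [show n + 1 - (n - 1) = 2 by omega] at h3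
    exact hr2 ((Nat.prime_dvd_prime_iff_eq hr Nat.prime_two).1 h3)
  · rw [show n + 1 - (n - 3) = 2 ^ 2 by omega] at h3
    exact hr2 ((Nat.prime_dvd_prime_iff_eq hr Nat.prime_two).1 (hr.dvd_of_dvd_pow h3))

/-- the large prime of the second factor -/
theorem odd_good (hp : p.Prime) (hf : 1 ≤ f) (hn : 10 ≤ n) (hev : Even n) :
    ∃ k', Odd k' ∧ (k' = n - 1 ∧ n ≠ 10 ∨ k' = 7 ∧ n = 10) ∧ ∃ l', Gd p f k' l' := by
  obtain ⟨c, hc⟩ := hev
  by_cases h10 : n = 10
  · exact ⟨7, by decide, Or.inr ⟨rfl, h10⟩, exists_gd hp hf (by omega) (by decide) (by omega)⟩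
  · exact ⟨n - 1, ⟨c - 1, by omega⟩, Or.inl ⟨rfl, h10⟩, exists_gd hp hf (by omega) ⟨c - 1, by omega⟩ (by omega)⟩

/-- the second factor fixes a small subspace -/
theorem odd_small (hP : Cfsg.Agent.H659.CovCore.S5948Stmt.{0}) (hp : p.Prime) (hf : 1 ≤ f)
    (hF : Fintype.card F = (p ^ f) ^ 2) (hn : 10 ≤ n) (hev : Even n) {A : Subgroup (SU (n + 1) F (p ^ f))} (hA : A ≠ ⊤)
    {k' l' s : ℕ} (hk'o : Odd k') (hk' : k' = n - 1 ∧ n ≠ 10 ∨ k' = 7 ∧ n = 10) (hl' : Gd p f k' l') {x : SU (n + 1) F (p ^ f)}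
    (hx : x ∈ A) (hxo : orderOf x = l' ^ ((p ^ f) ^ k' + 1).factorization l') (hs : Pm p f (n - 1) s)
    {y : SU (n + 1) F (p ^ f)} (hy : y ∈ A) (hys : y ^ s = 1) (hy1 : y ≠ 1) :
    ∃ W : Submodule F (Fin (n + 1) → F), 1 ≤ finrank F W ∧ finrank F W ≤ 2 ∧ InvA A W := by
  obtain ⟨c, hc⟩ := hev
  have hnum' : Num ((p ^ f) ^ 2) (n + 1) k' (orderOf x) := by
    rw [hxo]; exact hl'.num hp hf (by omega) (by omega) (by omega)
  rcases ogs hP hF hA hx hnum' with ⟨W', h0, h1, h3⟩ | ⟨r', hr', hrd', -⟩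
  · obtain ⟨W'', g1, g2, g3⟩ := exists_small hF h0 h1 h3
    have ho1 : Odd (n - 1) := ⟨c - 1, by omega⟩
    have hso := hs.card_ord hp hf (by omega) ho1 hF
    have h10 := Submodule.finrank_mono (le_fx (a := 1) hs.pr hso (by rw [pow_one]; exact hys) (g3 y hy) (by omega))
    have h11 := fx_dim (a := 1) hs.pr hso (by omega) (by rw [pow_one]; exact hys) hy1
    exact ⟨W'', g1, by omega, g3⟩
  · exfalso
    rcases hk' with ⟨rfl, -⟩ | ⟨rfl, rfl⟩
    · have h5 := dvd_sub_of_gcd hrd'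
      rw [show n + 1 - (n - 1) = 2 by omega] at h5
      have h6 : r' = 2 := (Nat.prime_dvd_prime_iff_eq hr' Nat.prime_two).1 h5
      subst h6
      have h7 : 2 ∣ n + 1 := hrd'.trans (Nat.gcd_dvd_left _ _)
      omega
    · have h5 : Nat.gcd (10 + 1) 7 = 1 := by norm_num
      rw [h5] at hrd'
      exact hr'.one_lt.ne' (Nat.dvd_one.1 hrd')

/-- the odd case, the second factor contains a prime of order `N - 1` -/
theorem odd_main (hP : Cfsg.Agent.H659.CovCore.S5948Stmt.{0}) (hp : p.Prime) (hf : 1 ≤ f)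
    (hF : Fintype.card F = (p ^ f) ^ 2) (hn : 10 ≤ n) (hev : Even n) {X Y : Subgroup (PSU (n + 1) F (p ^ f))}
    (h : Pr p f X Y) {r : ℕ} (hr : r.Prime) (hrn : r ∣ n + 1) (hNF : NF (X.comap (pr : SU (n + 1) F (p ^ f) →* _)) r)
    {t : ℕ} (ht : Ev p f n t) (htY : t ∣ Nat.card Y) : Res Y := by
  obtain ⟨c, hc⟩ := hev
  have hev : Even n := ⟨c, hc⟩
  have ho1 : Odd (n - 1) := ⟨c - 1, by omega⟩
  obtain ⟨k', hk'o, hk', l', hl'⟩ := odd_good (p := p) (f := f) hp hf hn hev
  have hl'Y : l' ∣ Nat.card Y := odd_primes hp hf hF hn hev h hr hrn hNF (by (clear * - hn hk'; omega)) hl'.toPm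
  obtain ⟨x, hx, hxo⟩ := exists_full_elt h.symm hp hf hF (by omega) hl' hk'o (by omega) (by omega) (by omega) hl'Y
  obtain ⟨s, hs⟩ := exists_pm (p := p) (f := f) (k := n - 1) hp hf (by omega) ho1
  obtain ⟨y, hy, hys, hy1, -⟩ := exists_elt_pr hs.pr (odd_primes hp hf hF hn hev h hr hrn hNF (Or.inl rfl) hs)
  obtain ⟨W, hW1, hW2, hWA⟩ := odd_small hP hp hf hF hn hev (comap_ne_top h.neY) hk'o hk' hl' hx hxo hs hy hys hy1
  obtain ⟨z, hz, hzt, hz1, -⟩ := exists_elt_pr ht.pr htY
  have hto := ht.card_ord hev hF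
  have htq : ¬ t ∣ p ^ f := Cfsg.Agent.H251.GeoU.not_dvd_of_ord ht.pr ht.ord (by omega)
  have hWz : W ≤ fx z := le_fx (a := 1) ht.pr hto (by rw [pow_one]; exact hzt) (hWA z hz) (by omega)
  have h6 := fx_dim_neg hF ht.pr htq hzt hz1
  rw [ht.ord] at h6
  have hWd : finrank F W = 1 := by
    have := Submodule.finrank_mono hWz
    omega
  have hWeq : W = fx z := Submodule.eq_of_le_of_finrank_le hWz (by omega)
  have hnd : ND (p ^ f) W := by
    rw [hWeq]; exact nd_fx (a := 1) hF ht.pr htq (by rw [pow_one]; exact hzt)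
  obtain ⟨w, hww, hwW⟩ := exists_span hWd hnd
  obtain ⟨ι, hι, hιr⟩ := exists_iota hF hww
  by_cases hB : (Y.comap (pr : SU (n + 1) F (p ^ f) →* _)).comap ι = ⊤
  · refine ⟨w, hww, fun g hg => ?_⟩
    obtain ⟨y, rfl⟩ := (hιr g).1 hg
    have : y ∈ (Y.comap (pr : SU (n + 1) F (p ^ f) →* _)).comap ι := by rw [hB]; trivial
    exact this
  exfalso
  have hl'o := hl'.toPm.card_ord hp hf (by omega) hk'o hF
  have hso := hs.card_ord hp hf (by omega) ho1 hF
  have hxp := pow_full hxo
  obtain ⟨x1, rfl⟩ := (hιr x).1 (fix_of_line hl'.pr hl'o (by (clear * - hn hc hk' hl'o; omega)) hWA hWd hx hxp hwW)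
  obtain ⟨y1, rfl⟩ := (hιr y).1 (fix_of_line (a := 1) hs.pr hso (by (clear * - hn hc hso; omega)) hWA hWd hy (by rw [pow_one]; exact hys) hwW)
  obtain ⟨z1, rfl⟩ := (hιr z).1 (fix_of_line (a := 1) ht.pr hto (by omega) hWA hWd hz (by rw [pow_one]; exact hzt) hwW)
  have hy1s : y1 ^ s = 1 := hι (by rw [map_pow, hys, map_one])
  have hz1t : z1 ^ t = 1 := hι (by rw [map_pow, hzt, map_one])
  have hy11 : y1 ≠ 1 := by rintro rfl; exact hy1 (map_one ι)
  have hz11 : z1 ≠ 1 := by rintro rfl; exact hz1 (map_one ι)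
  have hnum : Num ((p ^ f) ^ 2) n k' (orderOf x1) := by
    rw [← orderOf_injective ι hι x1, hxo]; exact hl'.num hp hf (by omega) (by (clear * - hk'; omega)) (by (clear * - hn hk'; omega))
  rcases ogs hP hF hB (x := x1) hx hnum with ⟨W', h0, h1, h3⟩ | ⟨r', hr', hrd', -⟩
  · obtain ⟨W'', g1, g2, g3⟩ := exists_small hF h0 h1 h3
    have h6 := fx_dim_neg hF ht.pr htq hz1t hz11
    rw [ht.ord] at h6
    have h7 := dvd_dim (a := 1) ht.pr hto (by omega) (by rw [pow_one]; exact hz1t) (g3 z1 hz)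
    have h8 : finrank F (W'' ⊓ fx z1 : Submodule F (Fin n → F)) ≤ finrank F (fx z1) :=
      Submodule.finrank_mono inf_le_right
    have h9 := Nat.le_of_dvd (by omega) h7
    have h10 := Submodule.finrank_mono (le_fx (a := 1) hs.pr hso (by rw [pow_one]; exact hy1s) (g3 y1 hy) (by (clear * - hn g2; omega)))
    have h11 := fx_dim (a := 1) hs.pr hso (by (clear * - hn; omega)) (by rw [pow_one]; exact hy1s) hy11
    (clear * - hn h9 h10 h11; omega)
  · rcases hk' with ⟨rfl, -⟩ | ⟨rfl, rfl⟩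
    · have h5 := dvd_sub_of_gcd hrd'
      rw [show n - (n - 1) = 1 by (clear * - hn; omega)] at h5
      exact hr'.one_lt.ne' (Nat.dvd_one.1 h5)
    · have h5 : Nat.gcd 10 7 = 1 := by norm_num
      rw [h5] at hrd'
      exact hr'.one_lt.ne' (Nat.dvd_one.1 hrd')

/-! ### `PSU_13(2)` -/

/-- `49` does not divide `|SU_m(2)|` for `m ≤ 11` -/
theorem not_49 (hF : Fintype.card F = 2 ^ 2) {m : ℕ} (hm : m ≤ 11) : ¬ 49 ∣ Nat.card (SU m F 2) := by
  intro h
  obtain ⟨k, hk⟩ := Nat.exists_eq_add_of_le hm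
  have h1 : Nat.card (SU m F 2) ∣ Nat.card (SU (m + k) F 2) :=
    Subgroup.card_dvd_of_injective (Cfsg.Agent.H674.SUBlock.ext hF k) (Cfsg.Agent.H674.SUBlock.ext_injective hF)
  rw [← hk] at h1
  have h2 := S0278.result (F := F) (q := 2) hF 11 (by norm_num)
  have h3 : 49 ∣ (2 + 1) * Nat.card (SU 11 F 2) := (h.trans h1).mul_left _
  rw [h2] at h3
  have h4 : Nat.Coprime 49 (2 ^ (11 * (11 - 1) / 2)) := Nat.Coprime.pow_right _ (by norm_num)
  have h5 := h4.dvd_of_dvd_mul_left h3
  simp only [Finset.prod_range_succ, Finset.prod_range_zero] at h5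
  revert h5
  decide

/-- the fixed space of a group of order prime to the characteristic is nondegenerate -/
theorem nd_fix_group {q m : ℕ} (hF : Fintype.card F = q ^ 2) (P : Subgroup (SU m F q)) {l : ℕ} (hl : l.Prime)
    (hlq : ¬ l ∣ q) {a : ℕ} (hPc : Nat.card P = l ^ a) {C : Submodule F (Fin m → F)}
    (hC : ∀ v, v ∈ C ↔ ∀ g ∈ P, act g v = v) : ND q C := by
  classical
  have hfin : Finite (SU m F q) := inferInstance
  have : Fintype P := Fintype.ofFinite P
  have hlF : (l : F) ≠ 0 := Cfsg.Agent.H251.GeoU.natCast_ne hF hl hlq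
  intro v hv h
  apply herm_nondeg hF
  intro z
  have h1 : (∑ g : P, act (g : SU m F q) z) ∈ C := by
    rw [hC]
    intro g hg
    rw [Cfsg.Agent.LieClassical.HermSiegel.act_sum]
    refine Fintype.sum_equiv (Equiv.mulLeft (⟨g, hg⟩ : P)) _ _ fun y => ?_
    rw [Equiv.coe_mulLeft, Subgroup.coe_mul, act_mul]
  have h2 := h _ h1
  rw [herm_sum_right hF] at h2
  have h3 : ∀ g ∈ (Finset.univ : Finset P), hermForm m F q v (act (g : SU m F q) z) = hermForm m F q v z := by
    intro g _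
    conv_lhs => rw [← (hC v).1 hv g g.2]
    rw [herm_act]
  rw [Finset.sum_congr rfl h3, Finset.sum_const, Finset.card_univ, ← Nat.card_eq_fintype_card, hPc, nsmul_eq_mul,
    Nat.cast_pow] at h2
  exact (mul_eq_zero.1 h2).resolve_left (pow_ne_zero _ hlF)

/-- the fixed space of a subgroup of order `49` of `SU_m(2)` has codimension at least `12` -/
theorem fix_49 (hF : Fintype.card F = 2 ^ 2) {m : ℕ} (P : Subgroup (SU m F 2)) (hPc : Nat.card P = 7 ^ 2)
    {W : Submodule F (Fin m → F)} (hW : ∀ g ∈ P, ∀ w ∈ W, act g w = w) : finrank F W + 12 ≤ m := by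
  classical
  let C : Submodule F (Fin m → F) :=
    { carrier := {v | ∀ g ∈ P, act g v = v}
      add_mem' := fun {u v} hu hv g hg => by
        rw [Cfsg.Agent.LieClassical.HermSiegel.act_add, hu g hg, hv g hg]
      zero_mem' := fun g _ => Cfsg.Agent.LieClassical.HermSiegel.act_zero g
      smul_mem' := fun c v hv g hg => by
        rw [Cfsg.Agent.LieClassical.HermSiegel.act_smul, hv g hg] }
  have hC : ∀ v, v ∈ C ↔ ∀ g ∈ P, act g v = v := fun _ => Iff.rfl
  have hWC : W ≤ C := fun w hw g hg => hW g hg w hw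
  have hnd : ND 2 C := nd_fix_group hF P (by norm_num : (7 : ℕ).Prime) (by norm_num) hPc hC
  set U := hermPerp 2 (C : Set (Fin m → F)) with hU
  have hUnd : ND 2 U := hermPerp_nondeg hF C hnd
  have h1 : finrank F C + finrank F U = m := finrank_perp hF C
  have h2 : finrank F U + finrank F (hermPerp 2 (U : Set (Fin m → F))) = m := finrank_perp hF U
  have h3 : C ≤ hermPerp 2 (U : Set (Fin m → F)) := by
    intro z hz u hu
    have h3 : hermForm m F 2 u z = 0 := hu z hz
    exact herm_eq_zero_swap hF h3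
  have h4 : C = hermPerp 2 (U : Set (Fin m → F)) := Submodule.eq_of_le_of_finrank_eq h3 (by omega)
  obtain ⟨e⟩ := exists_equiv hF U hUnd rfl
  have h5 : P ≤ fixG 2 (hermPerp 2 (U : Set (Fin m → F))) := by
    intro g hg w hw
    rw [← h4] at hw
    exact hw g hg
  have h6 : 49 ∣ Nat.card (SU (finrank F U) F 2) := by
    rw [Nat.card_congr e.toEquiv]
    have h7 := Subgroup.card_dvd_of_le h5
    rwa [hPc] at h7
  have h7 : 11 < finrank F U := by
    by_contra h8
    exact not_49 hF (by omega) h6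
  have h8 := Submodule.finrank_mono hWC
  omega

/-- `49 ∣ |PSU_13(2)|` -/
theorem dvd_49 (hF : Fintype.card F = 2 ^ 2) : 7 ^ 2 ∣ Nat.card (PSU 13 F 2) := by
  have h0 := S0280.result (F := F) hF 13 (by norm_num)
  have h1 : 7 ^ 2 ∣ Nat.gcd 13 (2 + 1) * ((2 + 1) * Nat.card (PSU 13 F 2)) := by
    rw [h0]
    refine Dvd.dvd.mul_left ?_ _
    simp only [Finset.prod_range_succ, Finset.prod_range_zero]
    decide
  have h2 : Nat.gcd 13 (2 + 1) = 1 := by norm_num
  rw [h2, one_mul] at h1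
  have h3 : Nat.Coprime (7 ^ 2) (2 + 1) := by norm_num
  exact h3.dvd_of_dvd_mul_left h1

theorem ord_seven' : orderOf ((4 : ℕ) : ZMod 7) = 3 := by
  rw [orderOf_eq_iff (by norm_num)]
  constructor
  · decide
  · intro m hm hm0
    interval_cases m <;> decide

end Cfsg.Agent.H89.Reg
end

-- part: H89/Reg/OddB
section
/-!
# S3691, row `PSU_N(q)`, `N ≥ 11`: the main theorem
-/

set_option autoImplicit false
set_option linter.unusedSectionVars false

namespace Cfsg.Agent.H89.Reg

open Cfsg Cfsg.Geo Module Matrix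
open Cfsg.Agent.LieClassical.HermBasic Cfsg.Agent.ClassicalGeometry.HermOrtho
open Cfsg.Agent.LieClassical.HermSiegel (act mat act_mul act_one act_inv_act act_act_inv herm_act)
open Cfsg.Agent.H278.Cov Cfsg.Agent.H851.Dg
open Cfsg.Agent.GpUn (fx mem_fx ND fixG mem_fixG exists_equiv)
open Cfsg.Agent.H674.SUBlock (pr pr_surjective)
open Cfsg.Agent.H251.GeoU (nat_card_eq ord_sq_odd ord_sq_even)

variable {F : Type} [Field F] [Fintype F] {n p f : ℕ}

theorem fix_49' {q : ℕ} (hq : q = 2) (hF : Fintype.card F = q ^ 2) {m : ℕ} (P : Subgroup (SU m F q))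
    (hPc : Nat.card P = 7 ^ 2) {W : Submodule F (Fin m → F)} (hW : ∀ g ∈ P, ∀ w ∈ W, act g w = w) :
    finrank F W + 12 ≤ m := by
  subst hq
  exact fix_49 hF P hPc hW

theorem dvd_49' {q : ℕ} (hq : q = 2) (hF : Fintype.card F = q ^ 2) : 7 ^ 2 ∣ Nat.card (PSU 13 F q) := by
  subst hq
  exact dvd_49 hF

/-- the elements of order `49` fix a small invariant subspace -/
theorem fix_small (hF : Fintype.card F = (2 ^ 1) ^ 2) {m : ℕ} {A : Subgroup (SU m F (2 ^ 1))}
    {W : Submodule F (Fin m → F)} (hW : InvA A W) (h2 : finrank F W ≤ 2) {P : Subgroup (SU m F (2 ^ 1))} (hP : P ≤ A)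
    (hPc : Nat.card P = 7 ^ 2) : ∀ g ∈ P, ∀ w ∈ W, act g w = w := by
  intro g hg w hw
  have h7 : orderOf ((Nat.card F : ℕ) : ZMod 7) = 3 := by
    rw [nat_card_eq hF]
    exact ord_seven'
  have hg2 : g ^ 7 ^ 2 = 1 := by
    have h1 : orderOf g ∣ 7 ^ 2 := by rw [← hPc]; exact Subgroup.orderOf_dvd_natCard _ hg
    exact orderOf_dvd_iff_pow_eq_one.1 h1
  exact le_fx (by norm_num : (7 : ℕ).Prime) h7 hg2 (hW g (hP hg)) (by omega) hw

theorem odd_thirteen (hP : Cfsg.Agent.H659.CovCore.S5948Stmt.{0}) (hF : Fintype.card F = (2 ^ 1) ^ 2)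
    {X Y : Subgroup (PSU (12 + 1) F (2 ^ 1))} (h : Pr 2 1 X Y)
    (hNF : NF (X.comap (pr : SU (12 + 1) F (2 ^ 1) →* _)) 13) : Res Y := by
  have hp : Nat.Prime 2 := Nat.prime_two
  have h13 : Nat.Prime 13 := by norm_num
  have p7 : Nat.Prime 7 := by norm_num
  have hf : 1 ≤ 1 := le_rfl
  have hev : Even 12 := by decide
  have ho1 : Odd 11 := by decide
  have ho7 : orderOf ((Nat.card F : ℕ) : ZMod 7) = 3 := by
    rw [nat_card_eq hF]
    exact ord_seven'
  -- `49` divides the order of the second factor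
  have h7X : ¬ 7 ∣ Nat.card (X.comap (pr : SU (12 + 1) F (2 ^ 1) →* _)) := by
    intro hd
    obtain ⟨i, hi1, hi2, hi3⟩ := hNF.div hF h13 (by norm_num) p7 (by norm_num) (by norm_num) ho7 hd
    have : i = 1 := by omega
    subst this
    omega
  have h49 : 7 ^ 2 ∣ Nat.card Y := by
    have h1 := h.val 7 p7 (by norm_num) (by norm_num) (by norm_num)
    rw [Nat.factorization_eq_zero_of_not_dvd fun h3 => h7X (h3.trans (card_dvd_comap X)), zero_add] at h1
    rw [p7.pow_dvd_iff_le_factorization Nat.card_pos.ne', h1, ← p7.pow_dvd_iff_le_factorization Nat.card_pos.ne']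
    exact dvd_49' (by norm_num) hF
  obtain ⟨l', hl'⟩ := exists_gd (p := 2) (f := 1) (k := 11) hp hf (by norm_num) ho1 (by norm_num)
  have hl'Y : l' ∣ Nat.card Y := odd_primes hp hf hF (by norm_num) hev h h13 (by norm_num) hNF (Or.inl rfl) hl'.toPm
  obtain ⟨x, hx, hxo⟩ := exists_full_elt h.symm hp hf hF (by omega) hl' ho1 (by omega) (by omega) (by omega) hl'Y
  obtain ⟨y, hy, hys, hy1, -⟩ := exists_elt_pr hl'.pr hl'Y
  obtain ⟨W, hW1, hW2, hWA⟩ := odd_small hP hp hf hF (n := 12) (by norm_num) hev (comap_ne_top h.neY) ho1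
    (Or.inl ⟨rfl, by norm_num⟩) hl' hx hxo hl'.toPm hy hys hy1
  have hfin : Finite (SU (12 + 1) F (2 ^ 1)) := inferInstance
  set K := Y.comap (pr : SU (12 + 1) F (2 ^ 1) →* _) with hK
  have := Fact.mk p7
  obtain ⟨P0, hP0⟩ := Sylow.exists_subgroup_card_pow_prime 7 (h49.trans (card_dvd_comap Y))
  set P := P0.map K.subtype with hPdef
  have hPK : P ≤ K := Subgroup.map_subtype_le _
  have hPc : Nat.card P = 7 ^ 2 := by rw [hPdef, Subgroup.card_map_of_injective K.subtype_injective, hP0]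
  have hfixW := fix_small hF hWA hW2 hPK hPc
  have hWd : finrank F W = 1 := by
    have := fix_49' (by norm_num) hF P hPc hfixW
    omega
  -- the line is nondegenerate
  let C : Submodule F (Fin (12 + 1) → F) :=
    { carrier := {v | ∀ g ∈ P, act g v = v}
      add_mem' := fun {u v} hu hv g hg => by
        rw [Cfsg.Agent.LieClassical.HermSiegel.act_add, hu g hg, hv g hg]
      zero_mem' := fun g _ => Cfsg.Agent.LieClassical.HermSiegel.act_zero g
      smul_mem' := fun c v hv g hg => by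
        rw [Cfsg.Agent.LieClassical.HermSiegel.act_smul, hv g hg] }
  have hC : ∀ v, v ∈ C ↔ ∀ g ∈ P, act g v = v := fun _ => Iff.rfl
  have hWC : W ≤ C := fun w hw g hg => hfixW g hg w hw
  have hCd : finrank F C ≤ 1 := by
    have := fix_49' (by norm_num) hF P hPc (W := C) fun g hg w hw => hw g hg
    omega
  have hWeq : W = C := Submodule.eq_of_le_of_finrank_le hWC (by omega)
  have hnd : ND (2 ^ 1) W := by
    rw [hWeq]
    exact nd_fix_group hF P p7 (by norm_num) hPc hC
  obtain ⟨w, hww, hwW⟩ := exists_span hWd hnd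
  obtain ⟨ι, hι, hιr⟩ := exists_iota hF hww
  by_cases hB : K.comap ι = ⊤
  · refine ⟨w, hww, fun g hg => ?_⟩
    obtain ⟨y, rfl⟩ := (hιr g).1 hg
    have : y ∈ K.comap ι := by rw [hB]; trivial
    exact this
  exfalso
  have hl'o := hl'.toPm.card_ord hp hf (by omega) ho1 hF
  have hxp := pow_full hxo
  obtain ⟨x1, rfl⟩ := (hιr x).1 (fix_of_line hl'.pr hl'o (by omega) hWA hWd hx hxp hwW)
  have hnum : Num ((2 ^ 1) ^ 2) 12 11 (orderOf x1) := by
    rw [← orderOf_injective ι hι x1, hxo]; exact hl'.num hp hf (by omega) (by omega) (by omega)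
  have hx1p : x1 ^ l' ^ ((2 ^ 1) ^ 11 + 1).factorization l' = 1 := pow_full (by rw [← orderOf_injective ι hι x1, hxo])
  rcases ogs hP hF hB (x := x1) hx hnum with ⟨W', h0, h1, h3⟩ | ⟨r', hr', hrd', -⟩
  · obtain ⟨W'', g1, g2, g3⟩ := exists_small hF h0 h1 h3
    have h10 := Submodule.finrank_mono (le_fx hl'.pr hl'o hx1p (g3 x1 hx) (by omega))
    have h11 := fx_dim hl'.pr hl'o (by omega) hx1p (ne_one_of_num hnum)
    have hPr : P ≤ ι.range := fun g hg => (hιr g).1 (hfixW g hg w hwW)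
    have hPc' : Nat.card (P.comap ι) = 7 ^ 2 := by
      rw [← hPc, ← Subgroup.card_map_of_injective (K := P.comap ι) hι, Subgroup.map_comap_eq, inf_eq_right.2 hPr]
    have hPK' : P.comap ι ≤ K.comap ι := Subgroup.comap_mono hPK
    have hfix2 := fix_small hF g3 (by omega) hPK' hPc'
    have := fix_49' (by norm_num) hF (P.comap ι) hPc' hfix2
    omega
  · have h5 : Nat.gcd 12 11 = 1 := by norm_num
    rw [h5] at hrd'
    exact hr'.one_lt.ne' (Nat.dvd_one.1 hrd')

/-- the odd case, the factor not containing the primes of order `N` -/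
theorem odd_case (hP : Cfsg.Agent.H659.CovCore.S5948Stmt.{0}) (hp : p.Prime) (hf : 1 ≤ f)
    (hF : Fintype.card F = (p ^ f) ^ 2) (hn : 10 ≤ n) (hev : Even n) {X Y : Subgroup (PSU (n + 1) F (p ^ f))}
    (h : Pr p f X Y) {l : ℕ} (hl : Gd p f (n + 1) l) (hd : l ∣ Nat.card X) : Res Y := by
  obtain ⟨c, hc⟩ := hev
  have hev : Even n := ⟨c, hc⟩
  have hodd : Odd (n + 1) := ⟨c, by omega⟩
  set H := X.comap (pr : SU (n + 1) F (p ^ f) →* _) with hH
  have hHt : H ≠ ⊤ := comap_ne_top h.neX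
  obtain ⟨x, hx, hxo⟩ := exists_full_elt h hp hf hF (by omega) hl hodd (by omega) (by omega) (by omega) hd
  have hnum : Num ((p ^ f) ^ 2) (n + 1) (n + 1) (orderOf x) := by
    rw [hxo]; exact hl.num hp hf (by omega) (by omega) (by omega)
  have hxp := pow_full hxo
  have hx1 : x ≠ 1 := ne_one_of_num hnum
  have hlo := hl.toPm.card_ord hp hf (by omega) hodd hF
  obtain ⟨r, hr, hrn, hNF⟩ : ∃ r, r.Prime ∧ r ∣ n + 1 ∧ NF H r := by
    rcases ogs hP hF hHt hx hnum with ⟨W, h0, h1, h2⟩ | ⟨r, hr, hrd, h3⟩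
    · exfalso
      obtain ⟨W'', h3, h4, h5⟩ := exists_small hF h0 h1 h2
      have h6 := Submodule.finrank_mono (le_fx hl.pr hlo hxp (h5 x hx) (by omega))
      have h7 := fx_dim hl.pr hlo (by omega) hxp hx1
      omega
    · rw [Nat.gcd_self] at hrd
      exact ⟨r, hr, hrd, h3⟩
  have hrle : r ≤ n + 1 := Nat.le_of_dvd (by omega) hrn
  by_cases hex : n = 12 ∧ p ^ f = 2
  · obtain ⟨rfl, h2⟩ := hex
    have hp2 : p = 2 := by
      have h3 : p ∣ 2 := by rw [← h2]; exact dvd_pow_self p (by omega)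
      exact (Nat.prime_dvd_prime_iff_eq hp Nat.prime_two).1 h3
    subst hp2
    have hf1 : f = 1 := Nat.pow_right_injective le_rfl (by rw [h2, pow_one] : 2 ^ f = 2 ^ 1)
    subst hf1
    have hr13 : r = 13 := (Nat.prime_dvd_prime_iff_eq hr (by norm_num)).1 hrn
    subst hr13
    exact odd_thirteen hP hF h hNF
  · obtain ⟨t, ht, ht'⟩ := exists_ev' hp hf hn hev hex
    have hto := ht.card_ord hev hF
    have htle := ht.le (by omega)
    have htq : ¬ t ∣ p ^ f := Cfsg.Agent.H251.GeoU.not_dvd_of_ord ht.pr ht.ord (by omega)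
    have key : t ≠ r → t ∣ Nat.card Y := by
      intro htr
      refine h.other_ev hF ht (by omega) (by omega) fun htd => ?_
      obtain ⟨i, hi1, hi2, d, hd⟩ := hNF.div hF hr (by omega) ht.pr htq htr hto htd
      have hr0 := hr.pos
      have hri : 0 < r * i := Nat.mul_pos hr0 hi1
      have hrn' : r ∣ n := by
        rcases d with _ | _ | _ | d
        · omega
        · refine ⟨i * 2, ?_⟩
          rw [← mul_assoc, hd]
          omega
        · exact ⟨i, by omega⟩
        · exfalso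
          have : n / 2 * 3 ≤ n / 2 * (d + 1 + 1 + 1) := Nat.mul_le_mul_left _ (by omega)
          omega
      exact hr.one_lt.ne' (Nat.dvd_one.1 ((Nat.dvd_add_right hrn').1 hrn))
    have htY : t ∣ Nat.card Y := by
      by_cases htr : t = r
      swap
      · exact key htr
      have htn : t = n + 1 := by (clear * - hc hrle htle htr; omega)
      have hsq : t ^ 2 ∣ (p ^ f) ^ n - 1 := ht'.resolve_left (fun h1 => h1 htn)
      have h1 : t ^ 2 ∣ Nat.card (PSU (n + 1) F (p ^ f)) := by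
        refine pow_dvd_psu hF ht.pr (ht.not_dvd_succ (by omega)) (i := n - 1) (by omega) (by omega) ?_
        have hne : ¬ Even (n - 1) := by
          rintro ⟨d, hd⟩
          omega
        rw [if_neg hne, Nat.sub_add_cancel (by omega)]
        exact hsq
      have h2 : ¬ t ^ 2 ∣ Nat.card H := by
        intro h3
        rw [← htr, htn] at hNF
        have h4 := h3.trans (hNF.card_full hF (by omega))
        rw [← htn, pow_two] at h4
        have h5 := Nat.dvd_of_mul_dvd_mul_left ht.pr.pos h4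
        have h6 : n / 2 ∣ t := by
          have hq1 : 1 ≤ Nat.card F := Nat.card_pos
          rw [← hto, ← Lib.Zsigmondy.dvd_pow_sub_one_iff hq1, nat_card_eq hF, ← pow_mul]
          exact h5
        have h7 : n / 2 ∣ n := ⟨2, by omega⟩
        rw [htn] at h6
        have h8 := (Nat.dvd_add_right h7).1 h6
        have := Nat.le_of_dvd (by norm_num) h8
        omega
      have h3 := h.val t ht.pr ht.ne_two ht.not_dvd_f (ht.not_dvd_succ (by omega))
      have h4 := (ht.pr.pow_dvd_iff_le_factorization Nat.card_pos.ne').1 h1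
      have h5 : (Nat.card X).factorization t ≤ 1 := by
        by_contra h6
        apply h2
        refine dvd_trans ?_ (card_dvd_comap X)
        rw [ht.pr.pow_dvd_iff_le_factorization Nat.card_pos.ne']
        omega
      rw [ht.pr.dvd_iff_one_le_factorization Nat.card_pos.ne']
      omega
    exact odd_main hP hp hf hF hn hev h hr hrn hNF ht htY

/-- **The main theorem for `N ≥ 11`.** -/
theorem core {N : ℕ} (hP : Cfsg.Agent.H659.CovCore.S5948Stmt.{0}) (hp : p.Prime) (hf : 1 ≤ f)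
    (hF : Fintype.card F = (p ^ f) ^ 2) (hN : 11 ≤ N) {X Y : Subgroup (PSU N F (p ^ f))} (h : Pr p f X Y) :
    Res X ∨ Res Y := by
  obtain ⟨n, rfl⟩ : ∃ n, N = n + 1 := ⟨N - 1, by omega⟩
  rcases Nat.even_or_odd n with hev | hodd
  · obtain ⟨c, hc⟩ := hev
    have hodd : Odd (n + 1) := ⟨c, by omega⟩
    obtain ⟨l, hl⟩ := exists_gd (p := p) (f := f) (k := n + 1) hp hf (by omega) hodd (by omega)
    rcases h.one hp hf hF hl.toPm (by omega) hodd le_rfl with hd | hd
    · exact Or.inr (odd_case hP hp hf hF (by omega) ⟨c, hc⟩ h hl hd)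
    · exact Or.inl (odd_case hP hp hf hF (by omega) ⟨c, hc⟩ h.symm hl hd)
  · have hn : 11 ≤ n := by
      obtain ⟨c, hc⟩ := hodd
      omega
    obtain ⟨l, hl⟩ := exists_gd (p := p) (f := f) (k := n) hp hf (by omega) hodd (by omega)
    rcases h.one hp hf hF hl.toPm (by omega) hodd (by omega) with hd | hd
    · exact Or.inl (even_case hP hp hf hF hn hodd h hl hd)
    · exact Or.inr (even_case hP hp hf hF hn hodd h.symm hl hd)

end Cfsg.Agent.H89.Reg
end

-- part: H89/Reg/Top
section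
/-!
# S3691, row `PSU_N(q)`, `N ≥ 11`: one factor contains the stabiliser of a nonsingular vector
-/

set_option autoImplicit false
set_option linter.unusedSectionVars false

namespace Cfsg.Agent.H89.Reg

open Cfsg Cfsg.Agent.H454.Reg Cfsg.Agent.H851.Dg

universe u

variable {F : Type} [Field F] [Fintype F] {N p f : ℕ}

theorem card_out_psu [Fact p.Prime] (hf : 1 ≤ f) (hF : Fintype.card F = (p ^ f) ^ 2) (hN : 3 ≤ N)
    (h32 : ¬ (N = 3 ∧ p ^ f = 2)) : Nat.card (Out (PSU N F (p ^ f))) = Nat.gcd N (p ^ f + 1) * (2 * f) := by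
  obtain ⟨φ, hφ, -, hk⟩ := Cfsg.Agent.H183.OutPSU.out_psu hf rfl hF hN h32
  have hfin : NeZero (2 * f) := ⟨by omega⟩
  rw [← Subgroup.card_mul_index φ.ker, hk, Subgroup.index_ker, MonoidHom.range_eq_top.2 hφ, Subgroup.card_top,
    Nat.card_eq_of_bijective Multiplicative.toAdd Multiplicative.toAdd.bijective, Nat.card_zmod]

/-- the image in `PSU_N(q)` of the intersection with the socle -/
def img {G : Type u} [Group G] {T : Subgroup G} (e : T ≃* PSU N F (p ^ f)) (X : Subgroup G) :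
    Subgroup (PSU N F (p ^ f)) := (X.subgroupOf T).map e.toMonoidHom

theorem card_img {G : Type u} [Group G] {T : Subgroup G} (e : T ≃* PSU N F (p ^ f)) (X : Subgroup G) :
    Nat.card (img e X) = Nat.card (X.subgroupOf T) :=
  Subgroup.card_map_of_injective (f := e.toMonoidHom) e.injective

theorem mem_img {G : Type u} [Group G] {T : Subgroup G} (e : T ≃* PSU N F (p ^ f)) {X : Subgroup G} {t : T} :
    e t ∈ img e X ↔ (t : G) ∈ X := by
  constructor
  · rintro ⟨s, hs, hst⟩
    have h1 : s = t := e.injective hst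
    rw [← h1]
    exact hs
  · intro h
    exact ⟨t, h, rfl⟩

/-- the numerical properties of the factors -/
theorem pr_of_fac {G : Type u} [Group G] [Finite G] {T X Y : Subgroup G} (h : Fac T X Y) (hp : p.Prime) (hf : 1 ≤ f)
    (hF : Fintype.card F = (p ^ f) ^ 2) (hN : 3 ≤ N) (h32 : ¬ (N = 3 ∧ p ^ f = 2)) (e : T ≃* PSU N F (p ^ f)) :
    Pr p f (img e X) (img e Y) := by
  have := Fact.mk hp
  have hout : Nat.card (Out T) = Nat.gcd N (p ^ f + 1) * (2 * f) := by
    rw [H548.Crit.card_out_congr e, card_out_psu hf hF hN h32]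
  have hcT : Nat.card T = Nat.card (PSU N F (p ^ f)) := Nat.card_congr e.toEquiv
  have htop : ∀ {Z : Subgroup G}, ¬ T ≤ Z → img e Z ≠ ⊤ := by
    intro Z hZ h1
    apply hZ
    intro t ht
    have h2 : e ⟨t, ht⟩ ∈ img e Z := by rw [h1]; trivial
    exact (mem_img e).1 h2
  refine ⟨htop h.not_le_left, htop h.not_le_right, ?_, ?_⟩
  · intro s hs h2 hsf hsq
    rw [card_img, card_img, ← hcT]
    apply h.val_eq
    rw [hout]
    intro h3
    rcases hs.dvd_mul.1 h3 with h4 | h4
    · exact hsq (h4.trans (Nat.gcd_dvd_right _ _))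
    · rcases hs.dvd_mul.1 h4 with h5 | h5
      · exact h2 ((Nat.prime_dvd_prime_iff_eq hs Nat.prime_two).1 h5)
      · exact hsf h5
  · intro s hs hcyc h1 h2
    rw [card_img] at h1 h2
    refine h.not_both hs (fun P hP => ?_) h1 h2
    have h3 : IsPGroup s (P.map e.toMonoidHom) := hP.map _
    have h4 := hcyc _ h3
    have h5 := (Subgroup.equivMapOfInjective P e.toMonoidHom e.injective)
    exact isCyclic_of_injective h5.toMonoidHom h5.injective

end Cfsg.Agent.H89.Reg
end
end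

-- part: H533/Reg/Ev
section
prune_inst 0xc10000400400000000000000000000002000000000000000000000000800800200000000000000000000000000000000010000000000000000000400000000000080000020000000000000000000000000000000000000000000000000000000000000000
set_option linter.all false
open scoped Cfsg.Agent.FastGrp

-- part: H533/Reg/Fld
section
/-!
# S3691, `PSU_n(q)`: the normaliser of a field of full degree in `SU_n(q)` (helper533)

* `pow_of_mem` : an isometry in an adjoint closed field of degree `n` has order dividing `q ^ n + 1`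
* `card_field_le` : `(q + 1) |N(K) ∩ SU_n(q)| ≤ n ^ 2 (q ^ n + 1)`
-/

set_option autoImplicit false
set_option linter.unusedSectionVars false

namespace Cfsg.Agent.H533.Reg

open Module Cfsg Cfsg.Geo Cfsg.Agent.LieClassical.HermBasic Cfsg.Agent.H918
open scoped Matrix MatrixGroups

/-- a nontrivial involution of a finite field (copy of helper398) -/
theorem inv_eq_pow {K : Type*} [Field K] [Fintype K] (σ : K ≃+* K) (h2 : ∀ a, σ (σ a) = a) (hne : ∃ a, σ a ≠ a) :
    ∃ Q : ℕ, Fintype.card K = Q ^ 2 ∧ ∀ a, σ a = a ^ Q := by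
  classical
  obtain ⟨p, hp⟩ := CharP.exists K
  have hpp : p.Prime := CharP.char_is_prime K p
  have : Fact p.Prime := ⟨hpp⟩
  let _ : Algebra (ZMod p) K := ZMod.algebra K p
  have hcomm : ∀ r : ZMod p, σ (algebraMap (ZMod p) K r) = algebraMap (ZMod p) K r := fun r =>
    RingHom.congr_fun (Subsingleton.elim ((σ : K →+* K).comp (algebraMap (ZMod p) K))
      (algebraMap (ZMod p) K)) r
  let stA : K ≃ₐ[ZMod p] K := AlgEquiv.ofRingEquiv (f := σ) hcomm
  obtain ⟨⟨n, hnd⟩, hn⟩ := (FiniteField.bijective_frobeniusAlgEquivOfAlgebraic_pow (ZMod p) K).2 stA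
  obtain ⟨d, hd⟩ : ∃ d, d = finrank (ZMod p) K := ⟨_, rfl⟩
  have hK : Fintype.card K = p ^ d := by
    have := Module.card_eq_pow_finrank (K := ZMod p) (V := K)
    rwa [ZMod.card, ← hd] at this
  have hst : ∀ x, σ x = x ^ (p ^ n) := by
    intro x
    have h3 : stA x = x ^ (p ^ n) := by
      rw [← hn]
      simp only
      rw [AlgEquiv.coe_pow, FiniteField.coe_frobeniusAlgEquivOfAlgebraic_iterate, ZMod.card]
    exact h3
  rw [← hd] at hnd
  obtain ⟨g, hg⟩ := IsCyclic.exists_generator (α := Kˣ)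
  have hord : orderOf g = p ^ d - 1 := by
    rw [orderOf_eq_card_of_forall_mem_zpowers hg, Nat.card_eq_fintype_card, Fintype.card_units, hK]
  have h3 : g ^ (p ^ n * p ^ n) = g ^ 1 := by
    apply Units.ext
    have := h2 (g : K)
    rw [hst, hst, ← pow_mul] at this
    rw [Units.val_pow_eq_pow_val, this, pow_one]
  rw [pow_eq_pow_iff_modEq, hord, ← pow_add] at h3
  have hp1 := hpp.one_lt
  have hn0 : n ≠ 0 := by
    intro h0
    obtain ⟨a, ha⟩ := hne
    exact ha (by rw [hst, h0, pow_zero, pow_one])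
  have hmod : ∀ k, k < d → p ^ k ≡ 1 [MOD p ^ d - 1] → k = 0 := by
    intro k hk h
    by_contra hk0
    have h4 : 1 < p ^ k := Nat.one_lt_pow hk0 hp1
    have h5 : p ^ k < p ^ d := Nat.pow_lt_pow_right hp1 hk
    have h6 := (Nat.modEq_iff_dvd' (by omega)).1 h.symm
    have h7 := Nat.le_of_dvd (by omega) h6
    omega
  have h4 : d = n + n := by
    rcases Nat.lt_or_ge (n + n) d with h | h
    · have := hmod _ h h3
      omega
    · have h5 : p ^ (n + n) ≡ p ^ (n + n - d) [MOD p ^ d - 1] := by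
        have h6 : p ^ (n + n) = p ^ d * p ^ (n + n - d) := by
          rw [← pow_add]
          congr 1
          omega
        have h7 : p ^ d ≡ 1 [MOD p ^ d - 1] := by
          have h8 : 1 ≤ p ^ d := Nat.one_le_pow _ _ hpp.pos
          have h9 : p ^ d = (p ^ d - 1) + 1 := by omega
          conv_lhs => rw [h9]
          exact Nat.add_modEq_left
        rw [h6]
        have := h7.mul_right (p ^ (n + n - d))
        rwa [one_mul] at this
      have h6 := hmod _ (by omega) (h5.symm.trans h3)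
      omega
  refine ⟨p ^ n, ?_, hst⟩
  rw [hK, ← pow_mul, h4]
  congr 1
  omega

variable {F : Type*} [Field F] [Fintype F] {n q : ℕ}

theorem one_lt_q (hF : Fintype.card F = q ^ 2) : 1 < q := by
  have h1 := Fintype.one_lt_card (α := F)
  rw [hF] at h1
  by_contra h
  have h2 : q ^ 2 ≤ 1 ^ 2 := Nat.pow_le_pow_left (by omega) 2
  omega

theorem exists_not_fixed (hF : Fintype.card F = q ^ 2) : ∃ c : F, c ^ q ≠ c := by
  by_contra h
  push Not at h
  have hq := one_lt_q hF
  have h1 : Fintype.card F ≤ q := by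
    classical
    have h2 : (Finset.univ : Finset F) ⊆ (Polynomial.X ^ q - Polynomial.X : Polynomial F).roots.toFinset := by
      intro c _
      rw [Multiset.mem_toFinset, Polynomial.mem_roots (FiniteField.X_pow_card_sub_X_ne_zero F hq)]
      simp [h c]
    calc Fintype.card F = (Finset.univ : Finset F).card := rfl
      _ ≤ _ := Finset.card_le_card h2
      _ ≤ _ := Multiset.toFinset_card_le _
      _ ≤ _ := Polynomial.card_roots' _
      _ = q := FiniteField.X_pow_card_sub_X_natDegree_eq F hq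
  rw [hF] at h1
  nlinarith

theorem mulVec_unique (hF : Fintype.card F = q ^ 2) {a b : Matrix (Fin n) (Fin n) F}
    (h : ∀ u v : Fin n → F, hermForm n F q u (a *ᵥ v) = hermForm n F q u (b *ᵥ v)) : a = b := by
  apply Matrix.toLin'.injective
  apply LinearMap.ext
  intro v
  rw [Matrix.toLin'_apply, Matrix.toLin'_apply]
  have h1 : a *ᵥ v - b *ᵥ v = 0 := by
    apply herm_nondeg hF
    intro u
    apply herm_eq_zero_swap hF
    rw [herm_sub_right hF, h, sub_self]
  exact sub_eq_zero.1 h1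

/-- an isometry in an adjoint closed field of full degree -/
theorem pow_of_mem (hF : Fintype.card F = q ^ 2) (hn : 0 < n) {K : Subalgebra F (Matrix (Fin n) (Fin n) F)}
    (hK : IsFieldSubalgebra n K) (hadj : IsAdjointClosedFor (hermForm n F q) K) {a : Matrix (Fin n) (Fin n) F}
    (ha : a ∈ K) (hiso : ∀ u v, hermForm n F q (a *ᵥ u) (a *ᵥ v) = hermForm n F q u v) : a ^ (q ^ n + 1) = 1 := by
  classical
  have hne : Nonempty (Fin n) := ⟨⟨0, hn⟩⟩
  let _ : Field K := (H912.isField_of_fieldSub hK).toField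
  have hKfin : Finite K := Module.finite_of_finite F
  let _ : Fintype K := Fintype.ofFinite K
  have hadj' : ∀ k : K, ∃ k' : K, ∀ u v : Fin n → F,
      hermForm n F q ((k : Matrix (Fin n) (Fin n) F) *ᵥ u) v = hermForm n F q u ((k' : Matrix (Fin n) (Fin n) F) *ᵥ v) := by
    intro k
    obtain ⟨k', hk', h⟩ := hadj k k.2
    exact ⟨⟨k', hk'⟩, h⟩
  choose f hf using hadj'
  have huniq : ∀ {b c : K}, (∀ u v : Fin n → F, hermForm n F q u ((b : Matrix (Fin n) (Fin n) F) *ᵥ v) =
      hermForm n F q u ((c : Matrix (Fin n) (Fin n) F) *ᵥ v)) → b = c := fun h => Subtype.ext (mulVec_unique hF h)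
  have hff : ∀ a, f (f a) = a := by
    intro a
    apply huniq
    intro u v
    rw [← hf, herm_swap hF v, ← hf, ← herm_swap hF]
  have hadd : ∀ a b, f (a + b) = f a + f b := by
    intro a b
    apply huniq
    intro u v
    rw [← hf, Subalgebra.coe_add, Subalgebra.coe_add, Matrix.add_mulVec, Matrix.add_mulVec, herm_add_left, herm_add_right hF,
      hf, hf]
  have hmul : ∀ a b, f (a * b) = f a * f b := by
    intro a b
    apply huniq
    intro u v
    rw [← hf, Subalgebra.coe_mul, Subalgebra.coe_mul, ← Matrix.mulVec_mulVec, ← Matrix.mulVec_mulVec, hf, hf]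
    have h1 : (f b : Matrix (Fin n) (Fin n) F) * f a = f a * f b := hK.comm _ (f b).2 _ (f a).2
    rw [Matrix.mulVec_mulVec, Matrix.mulVec_mulVec, h1]
  let σ : K ≃+* K := { toFun := f, invFun := f, left_inv := hff, right_inv := hff, map_mul' := hmul, map_add' := hadd }
  obtain ⟨c, hc⟩ := exists_not_fixed hF
  have hσc : f (algebraMap F K c) = algebraMap F K (c ^ q) := by
    apply huniq
    intro u v
    rw [← hf]
    have h1 : ∀ x : F, ((algebraMap F K x : K) : Matrix (Fin n) (Fin n) F) = x • (1 : Matrix (Fin n) (Fin n) F) := by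
      intro x
      rw [Subalgebra.coe_algebraMap, Algebra.algebraMap_eq_smul_one]
    rw [h1, h1, Matrix.smul_mulVec, Matrix.smul_mulVec, Matrix.one_mulVec, Matrix.one_mulVec, herm_smul_left,
      herm_smul_right, pow_q_pow_q hF]
  obtain ⟨Q, hQ, hQa⟩ := inv_eq_pow σ hff ⟨algebraMap F K c, fun h => hc ((algebraMap F K).injective (by
    rw [← hσc]; exact h))⟩
  have hcard : Fintype.card K = (q ^ n) ^ 2 := by
    rw [Module.card_eq_pow_finrank (K := F), hK.finrank_eq, hF, ← pow_mul, ← pow_mul, mul_comm]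
  have hQn : Q = q ^ n := by
    rw [hcard] at hQ
    exact (Nat.pow_left_injective two_ne_zero hQ).symm
  have h1 : f ⟨a, ha⟩ * ⟨a, ha⟩ = 1 := by
    apply huniq
    intro u v
    rw [Subalgebra.coe_mul, ← Matrix.mulVec_mulVec, ← hf]
    change hermForm n F q (a *ᵥ u) (a *ᵥ v) = _
    rw [hiso, Subalgebra.coe_one, Matrix.one_mulVec]
  have h2 : (⟨a, ha⟩ : K) ^ (q ^ n + 1) = 1 := by
    rw [pow_succ, ← hQn, ← hQa]
    exact h1
  have h3 := congrArg (Subtype.val : K → Matrix (Fin n) (Fin n) F) h2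
  exact h3

/-- elements of `K` with `a ^ (q + 1) = 1` are scalars -/
theorem scalar_of_pow (hF : Fintype.card F = q ^ 2) (hn : 0 < n) {K : Subalgebra F (Matrix (Fin n) (Fin n) F)}
    (hK : IsFieldSubalgebra n K) {a : Matrix (Fin n) (Fin n) F}
    (ha : a ∈ K) (h : a ^ (q + 1) = 1) : ∃ c : Fˣ, a = (c : F) • (1 : Matrix (Fin n) (Fin n) F) := by
  classical
  have hne : Nonempty (Fin n) := ⟨⟨0, hn⟩⟩
  let _ : Field K := (H912.isField_of_fieldSub hK).toField
  have hKfin : Finite K := Module.finite_of_finite F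
  have hk : (⟨a, ha⟩ : K) ^ (q + 1) = 1 := Subtype.ext h
  have hq := one_lt_q hF
  -- the roots in `K`
  have hroots : Nat.card (powMonoidHom (q + 1) : Kˣ →* Kˣ).ker ≤ q + 1 := by
    rw [IsCyclic.card_powMonoidHom_ker]
    exact Nat.gcd_le_right _ (by omega)
  have hF1 : Nat.card (powMonoidHom (q + 1) : Fˣ →* Fˣ).ker = q + 1 := by
    rw [IsCyclic.card_powMonoidHom_ker, Nat.card_units, Nat.card_eq_fintype_card, hF]
    have h1 : q ^ 2 - 1 = (q + 1) * (q - 1) := by
      have := Nat.sq_sub_sq q 1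
      rwa [one_pow] at this
    rw [h1, Nat.gcd_comm]
    exact Nat.gcd_mul_right_right _ _
  let g : (powMonoidHom (q + 1) : Fˣ →* Fˣ).ker → (powMonoidHom (q + 1) : Kˣ →* Kˣ).ker := fun x =>
    ⟨Units.map (algebraMap F K).toMonoidHom x.1, by
      have h1 : (x.1 : Fˣ) ^ (q + 1) = 1 := x.2
      rw [MonoidHom.mem_ker, powMonoidHom_apply, ← map_pow, h1, map_one]⟩
  have hg : Function.Injective g := by
    intro x y hxy
    apply Subtype.ext
    apply Units.ext
    apply (algebraMap F K).injective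
    exact congrArg (fun z : (powMonoidHom (q + 1) : Kˣ →* Kˣ).ker => ((z : Kˣ) : K)) hxy
  have hfin : Finite (powMonoidHom (q + 1) : Kˣ →* Kˣ).ker := inferInstance
  have hbij : Function.Bijective g := by
    refine (Nat.bijective_iff_injective_and_card g).2 ⟨hg, le_antisymm ?_ ?_⟩
    · exact Nat.card_le_card_of_injective g hg
    · rw [hF1]; exact hroots
  have hu : IsUnit (⟨a, ha⟩ : K) := IsUnit.of_pow_eq_one hk (by omega)
  obtain ⟨u, hu⟩ := hu
  have huk : u ∈ (powMonoidHom (q + 1) : Kˣ →* Kˣ).ker := by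
    rw [MonoidHom.mem_ker, powMonoidHom_apply]
    apply Units.ext
    rw [Units.val_pow_eq_pow_val, hu, hk, Units.val_one]
  obtain ⟨c, hc⟩ := hbij.2 ⟨u, huk⟩
  refine ⟨c.1, ?_⟩
  have h1 : ((u : Kˣ) : K) = algebraMap F K ((c.1 : Fˣ) : F) := by
    have := congrArg (fun z : (powMonoidHom (q + 1) : Kˣ →* Kˣ).ker => ((z : Kˣ) : K)) hc
    exact this.symm
  have h2 : a = ((⟨a, ha⟩ : K) : Matrix (Fin n) (Fin n) F) := rfl
  rw [h2, ← hu, h1, Subalgebra.coe_algebraMap, Algebra.algebraMap_eq_smul_one]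

/-- **the normaliser of a field of full degree in `SU_n(q)`** -/
theorem card_field_le (hF : Fintype.card F = q ^ 2) (hn : 0 < n) (hodd : Odd n) {K : Subalgebra F (Matrix (Fin n) (Fin n) F)}
    (hK : IsFieldSubalgebra n K) (hadj : IsAdjointClosedFor (hermForm n F q) K) :
    (q + 1) * Nat.card (subalgebraNormalizer K ⊓ SUg n F q : Subgroup (GL (Fin n) F)) ≤ n ^ 2 * (q ^ n + 1) := by
  classical
  have hne : Nonempty (Fin n) := ⟨⟨0, hn⟩⟩
  have hfin : Finite (GL (Fin n) F) := inferInstance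
  have hN : H912.NormAlg (subalgebraNormalizer K) K := fun _ hh a ha => (hh a).mp ha
  let _ : Field K := (H912.isField_of_fieldSub hK).toField
  have hfd : Module.Finite F K := inferInstance
  have hKfin : Finite K := Module.finite_of_finite F
  have hgal : IsGalois F K := inferInstance
  set S := (subalgebraNormalizer K ⊓ SUg n F q : Subgroup (GL (Fin n) F)) with hS
  let φ0 : subalgebraNormalizer K →* (K ≃ₐ[F] K) :=
    { toFun := fun h => H912.conjSub hN h
      map_one' := by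
        apply AlgEquiv.ext
        intro x
        apply Subtype.ext
        rw [H912.conjSub_coe]
        simp only [_root_.OneMemClass.coe_one, _root_.Units.val_one, _root_.one_mul, _root_.inv_one, _root_.mul_one, _root_.AlgEquiv.one_apply]
      map_mul' := fun a b => by
        apply AlgEquiv.ext
        intro x
        apply Subtype.ext
        rw [AlgEquiv.mul_apply, H912.conjSub_coe, H912.conjSub_coe, H912.conjSub_coe, Subgroup.coe_mul,
          _root_.mul_inv_rev, Units.val_mul, Units.val_mul]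
        simp only [Matrix.mul_assoc] }
  let φ : S →* (K ≃ₐ[F] K) := φ0.comp (Subgroup.inclusion inf_le_left)
  have hmem : ∀ g : φ.ker, (((g : S) : GL (Fin n) F) : Matrix (Fin n) (Fin n) F) ∈ K := by
    intro g
    apply H922.mem_of_commute (by rwa [Fintype.card_fin]) (by rwa [Fintype.card_fin])
    intro k hk
    have h1 : (H912.conjSub hN (Subgroup.inclusion inf_le_left (g : S) : subalgebraNormalizer K)) = 1 := g.2
    have h2 := H912.conjSub_coe hN (Subgroup.inclusion inf_le_left (g : S) : subalgebraNormalizer K) ⟨k, hk⟩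
    rw [h1] at h2
    change k = (((g : S) : GL (Fin n) F) : Matrix (Fin n) (Fin n) F) * k * ((((g : S) : GL (Fin n) F)⁻¹ : GL (Fin n) F) : Matrix (Fin n) (Fin n) F) at h2
    conv_rhs => rw [h2]
    rw [Matrix.mul_assoc, ← Units.val_mul, inv_mul_cancel, Units.val_one, Matrix.mul_one]
  let ψ : φ.ker →* K :=
    { toFun := fun g => ⟨_, hmem g⟩
      map_one' := rfl
      map_mul' := fun a b => rfl }
  have hψ : Function.Injective ψ := by
    intro a b hab
    apply Subtype.ext
    apply Subtype.ext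
    apply Units.ext
    exact congrArg Subtype.val hab
  have hcyc : IsCyclic φ.ker := isCyclic_of_injective_ringHom ψ hψ
  obtain ⟨g, hg⟩ := IsCyclic.exists_generator (α := φ.ker)
  have hgc : orderOf g = Nat.card φ.ker := orderOf_eq_card_of_forall_mem_zpowers hg
  set c := Nat.card φ.ker with hc
  have hcpos : 0 < c := Nat.card_pos
  -- powers
  have hpow : ∀ m : ℕ, ((((g ^ m : φ.ker) : S) : GL (Fin n) F) : Matrix (Fin n) (Fin n) F) =
      ((((g : φ.ker) : S) : GL (Fin n) F) : Matrix (Fin n) (Fin n) F) ^ m := fun m => by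
    rw [Subgroup.coe_pow, Subgroup.coe_pow, Units.val_pow_eq_pow_val]
  have h1 : c ∣ q ^ n + 1 := by
    rw [← hgc, orderOf_dvd_iff_pow_eq_one]
    apply Subtype.ext
    apply Subtype.ext
    apply Units.ext
    rw [hpow]
    refine pow_of_mem hF hn hK hadj (hmem g) fun u v => ?_
    have h2 := ((g : S) : S).2.2
    exact (mem_SUg.1 h2).1 u v
  set d := Nat.gcd c (q + 1) with hd
  have hdpos : 0 < d := Nat.gcd_pos_of_pos_left _ hcpos
  have hdc : d ∣ c := Nat.gcd_dvd_left _ _
  have hdn : d ∣ n := by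
    have ho : orderOf (g ^ (c / d)) = d := by
      rw [orderOf_pow_of_dvd (Nat.div_pos (Nat.le_of_dvd hcpos hdc) hdpos).ne' (by rw [hgc]; exact Nat.div_dvd_of_dvd hdc), hgc]
      exact Nat.div_div_self hdc hcpos.ne'
    have h2 : (((((g ^ (c / d) : φ.ker) : S) : GL (Fin n) F) : Matrix (Fin n) (Fin n) F)) ^ (q + 1) = 1 := by
      have h3 : (g ^ (c / d)) ^ (q + 1) = 1 := by
        rw [← orderOf_dvd_iff_pow_eq_one, ho]
        exact Nat.gcd_dvd_right _ _
      rw [hpow, ← pow_mul, ← hpow, pow_mul, h3]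
      rfl
    obtain ⟨z, hz⟩ := scalar_of_pow hF hn hK (hmem (g ^ (c / d))) h2
    have hdet : (z : F) ^ n = 1 := by
      have h3 := ((g ^ (c / d) : φ.ker) : S).2.2
      have h4 := (mem_SUg.1 h3).2
      rw [hz, Matrix.det_smul, Matrix.det_one, mul_one, Fintype.card_fin] at h4
      exact h4
    rw [← ho, orderOf_dvd_iff_pow_eq_one]
    apply Subtype.ext
    apply Subtype.ext
    apply Units.ext
    rw [Subgroup.coe_pow, Subgroup.coe_pow, Units.val_pow_eq_pow_val, hz, smul_pow, one_pow, hdet, one_smul]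
    rfl
  have hdle : d ≤ n := Nat.le_of_dvd hn hdn
  -- `c ≤ n R`
  obtain ⟨R, hR⟩ : q + 1 ∣ q ^ n + 1 := by
    have := hodd.nat_add_dvd_pow_add_pow q 1
    rwa [one_pow] at this
  have hcR : c ≤ n * R := by
    have h2 : c / d ∣ ((q + 1) / d) * R := by
      apply Nat.dvd_of_mul_dvd_mul_left hdpos
      rw [Nat.mul_div_cancel' hdc, ← mul_assoc, Nat.mul_div_cancel' (Nat.gcd_dvd_right _ _), ← hR]
      exact h1
    have h3 : Nat.Coprime (c / d) ((q + 1) / d) := Nat.coprime_div_gcd_div_gcd hdpos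
    have h4 : c / d ∣ R := h3.dvd_of_dvd_mul_left h2
    have hRpos : 0 < R := by
      rcases Nat.eq_zero_or_pos R with h | h
      · rw [h] at hR; omega
      · exact h
    calc c = d * (c / d) := (Nat.mul_div_cancel' hdc).symm
      _ ≤ n * R := Nat.mul_le_mul hdle (Nat.le_of_dvd hRpos h4)
  have hran : Nat.card φ.range ≤ n := by
    have h1 : Nat.card (K ≃ₐ[F] K) = n := by
      rw [IsGalois.card_aut_eq_finrank, hK.finrank_eq]
    have hf2 : Finite (K ≃ₐ[F] K) := Nat.finite_of_card_ne_zero (by rw [h1]; omega)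
    calc Nat.card φ.range ≤ Nat.card (K ≃ₐ[F] K) := Nat.card_le_card_of_injective _ φ.range.subtype_injective
      _ = n := h1
  have h5 := Subgroup.card_eq_card_quotient_mul_card_subgroup φ.ker
  have h6 : Nat.card (S ⧸ φ.ker) = Nat.card φ.range :=
    Nat.card_congr (QuotientGroup.quotientKerEquivRange φ).toEquiv
  rw [h5, h6, hR]
  calc (q + 1) * (Nat.card φ.range * c) ≤ (q + 1) * (n * (n * R)) := by gcongr
    _ = n ^ 2 * ((q + 1) * R) := by ring

end Cfsg.Agent.H533.Reg
end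

-- part: H533/Reg/Cls
section
/-!
# S3691, `PSU_n(q)`, `n ≤ 8`: members of the geometric classes containing a primitive prime (helper533)

* `class_odd`, `class_even`
* `card_res_le` : the order of a residual group
* `exists_max` : a maximal subgroup above a proper subgroup
-/

set_option autoImplicit false
set_option linter.unusedSectionVars false

namespace Cfsg.Agent.H533.Reg

open Module Cfsg Cfsg.Geo Cfsg.Agent.LieClassical.HermBasic Cfsg.Agent.H918 Cfsg.Agent.H251.GeoU Cfsg.Agent.H89.Reg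
open scoped Matrix MatrixGroups

variable {F : Type} [Field F] [Fintype F] {n p f l : ℕ}

section

variable (hF : Fintype.card F = (p ^ f) ^ 2) (hp : p.Prime) (hf : 1 ≤ f)

include hF hp hf

/-- the members of the classes containing a primitive prime `l`, `ord(-q) = m`, `m ≤ n ≤ m + 1` odd -/
theorem class_gen {m : ℕ} (hn : 4 ≤ n) (hm : Odd m) (hmn : m ≤ n) (hnm : n ≤ m + 1) (hl : Pm p f m l)
    {X : Subgroup (GL (Fin n) F)} (hX : InUnitaryClass n F (p ^ f) X) (hd : l ∣ Nat.card X) :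
    (n = m + 1 ∧ ∃ W : Submodule F (Fin n → F), finrank F W = 1 ∧ IsNondegenerateOn (hermForm n F (p ^ f)) W ∧
      X = subspaceStabilizer W ⊓ Cfsg.GU n F (p ^ f)) ∨
    (n = m ∧ ∃ (r : ℕ) (K : Subalgebra F (Matrix (Fin n) (Fin n) F)), r.Prime ∧ Odd r ∧ IsFieldSubalgebra r K ∧
      IsAdjointClosedFor (hermForm n F (p ^ f)) K ∧ X = subalgebraNormalizer K ⊓ Cfsg.GU n F (p ^ f)) := by
  have hne : Nonempty (Fin n) := ⟨⟨0, by omega⟩⟩
  have hm3 : 3 ≤ m := by
    obtain ⟨k, hk⟩ := hm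
    omega
  have hs := hl.pr
  have hiff := hl.iff
  have hord := hl.ord hp hf (by omega) hm
  have hsbig : n + 1 < l := by
    have h2 := hl.lt hp hf (by omega)
    have h3 : 2 * m * 1 ≤ 2 * m * f := Nat.mul_le_mul_left _ hf
    have h4 := hl.dvd_pred hp hf (by omega)
    have h5 := Nat.le_of_dvd (by omega) h4
    omega
  have hm' : 3 ≤ m := hm3
  rcases hX with hM | hM | hM | hM
  · rcases hM with hM | hM | hM | hM | hM | hM | hM | hM
    · obtain ⟨W, hW0, hW, rfl⟩ := hM
      exact (kill_ts hF hs hord hm hn hnm hW0 hW hd).elim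
    · obtain ⟨W, hW0, hW, hW2, rfl⟩ := hM
      obtain ⟨hnm', hW1⟩ := kill_nd hF hs hord hm hn hnm hW0 hW2 hd
      exact Or.inl ⟨hnm', W, hW1, hW, rfl⟩
    · obtain ⟨t, k, D, hD, rfl⟩ := hM
      exact (kill_decomp hF hs hord hm hn hnm (by omega) hD.decomp (dvd_left hd)).elim
    · obtain ⟨k, D, hk, hD, -, rfl⟩ := hM
      exact (kill_decomp hF hs hord hm hn hnm (by omega) hD (dvd_left hd)).elim
    · obtain ⟨F₀, r, P, hr, hro, hc, -, rfl⟩ := hM
      exact (kill_subfield hF hp rfl hf hs hiff hord hm hn hnm hr.two_le hc (dvd_left hd)).elim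
    · obtain ⟨F₀, P, -, hc, -, rfl⟩ := hM
      exact (kill_subfield hF hp rfl hf hs hiff hord hm hn hnm le_rfl hc (dvd_left hd)).elim
    · obtain ⟨F₀, P, ζ, -, hc, -, -, -, -, rfl⟩ := hM
      exact (kill_subfield hF hp rfl hf hs hiff hord hm hn hnm le_rfl hc (dvd_left hd)).elim
    · obtain ⟨r, R, p', e, k, hR, habs, -, -, -, hc, rfl⟩ := hM
      have ht : H920.IsType r k R := by
        rcases hc with ⟨h1, h2, -, h3⟩ | ⟨h1, -, h2, h3⟩
        · exact Or.inl ⟨h1, h2, h3⟩
        · exact Or.inr ⟨h1, h2, h3⟩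
      exact (kill_symp hF hs hord hm hn hnm hsbig hR habs ht (dvd_left hd)).elim
  · obtain ⟨r, K, hr, hro, hK, hadj, rfl⟩ := hM
    have hr3 : 3 ≤ r := by
      have := hr.two_le
      obtain ⟨k, hk⟩ := hro
      omega
    rcases Nat.even_or_odd n with hev | hodd
    · have hnm' : n = m + 1 := by
        obtain ⟨k, hk⟩ := hm
        obtain ⟨l, hl⟩ := hev
        omega
      exact (kill_field_even hF hs hord hm hn hnm' (by omega) hr hr3 hK (dvd_left hd)).elim
    · right
      refine ⟨?_, r, K, hr, hro, hK, hadj, rfl⟩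
      obtain ⟨k, hk⟩ := hm
      obtain ⟨l, hl⟩ := hodd
      omega
  · obtain ⟨n₁, n₂, e, P, f₁, f₂, h2, hlt, -, -, -, rfl⟩ := hM
    exact (kill_tensor hF hs hord hm hn hnm e P h2 hlt (dvd_left hd)).elim
  · obtain ⟨k, t, e, P, f₁, hk, ht, -, -, -, rfl⟩ := hM
    exact (kill_wreath hF hs hord hm hn hnm (by omega) e P hk ht (dvd_left hd)).elim

end

/-- the order of a residual group of matrices of determinant one -/
theorem card_res_le {H P : Subgroup (GL (Fin n) F)} (hn : 0 < n) (hP : IsResidualCore H P)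
    (hH : H ≤ specialLinear (Fin n) F) :
    Nat.card H ≤ Nat.card (MulAut (P ⧸ (scalars (Fin n) F).subgroupOf P)) * n := by
  classical
  obtain ⟨φ, hφ⟩ := H269.U5.exists_act hP
  have hne : Nonempty (Fin n) := ⟨⟨0, hn⟩⟩
  have hfinG : Finite (GL (Fin n) F) := inferInstance
  have hfinP : Finite (P ⧸ (scalars (Fin n) F).subgroupOf P) := inferInstance
  have hfinA : Finite (MulAut (P ⧸ (scalars (Fin n) F).subgroupOf P)) := inferInstance
  have hn0 : NeZero n := ⟨by omega⟩
  have hker : Nat.card φ.ker ≤ n := by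
    have hsc : ∀ h : φ.ker, ∃ c : rootsOfUnity n F,
        (((h : H) : GL (Fin n) F) : Matrix (Fin n) (Fin n) F) = ((c : Fˣ) : F) • (1 : Matrix (Fin n) (Fin n) F) := by
      intro h
      obtain ⟨c, hc⟩ := (mem_scalars_iff _).1 (hφ h h.2)
      have hdet := mem_specialLinear.1 (hH (h : H).2)
      have h2 : c ^ n = 1 := by
        rw [hc, Matrix.det_smul, Matrix.det_one, mul_one, Fintype.card_fin] at hdet
        exact Units.ext (by rw [Units.val_pow_eq_pow_val, hdet, Units.val_one])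
      exact ⟨⟨c, (mem_rootsOfUnity n c).2 h2⟩, hc⟩
    choose c hc using hsc
    have hinj : Function.Injective c := by
      intro a b hab
      apply Subtype.ext
      apply Subtype.ext
      apply Units.ext
      rw [hc, hc, hab]
    have h1 := Nat.card_le_card_of_injective c hinj
    exact h1.trans (card_rootsOfUnity F n)
  have h5 := Subgroup.card_eq_card_quotient_mul_card_subgroup φ.ker
  have h6 : Nat.card (H ⧸ φ.ker) = Nat.card φ.range :=
    Nat.card_congr (QuotientGroup.quotientKerEquivRange φ).toEquiv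
  rw [h5, h6]
  exact Nat.mul_le_mul (Nat.card_le_card_of_injective _ φ.range.subtype_injective) hker

/-- a maximal subgroup above a proper subgroup of `SU_n(q)` -/
theorem exists_max {q : ℕ} {A : Subgroup (SU n F q)} (hA : A ≠ ⊤) :
    ∃ H : Subgroup (GL (Fin n) F), IsMaximalIn (SUg n F q) H ∧ A.map (suHom n F q) ≤ H := by
  obtain ⟨M, hM, hAM⟩ := (eq_top_or_exists_le_coatom A).resolve_left hA
  refine ⟨M.map (suHom n F q), ⟨lt_of_le_of_ne ?_ ?_, ?_⟩, Subgroup.map_mono hAM⟩
  · rw [← map_suHom_top]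
    exact Subgroup.map_mono le_top
  · intro he
    rw [← map_suHom_top] at he
    exact hM.1 (Subgroup.map_injective suHom_injective he)
  · intro K hHK hK
    have hKe : (K.comap (suHom n F q)).map (suHom n F q) = K := Subgroup.map_comap_eq_self (by rw [range_suHom]; exact hK)
    have h1 : M ≤ K.comap (suHom n F q) := by
      intro s hs
      exact hHK ⟨s, hs, rfl⟩
    rcases hM.le_iff.1 h1 with h4 | h4
    · right
      rw [← hKe, h4, map_suHom_top]
    · left
      rw [← hKe, h4]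

end Cfsg.Agent.H533.Reg
end

-- part: H533/Reg/Hyp
section
/-!
# S3691, `PSU_n(q)`, `n ≤ 8`: the statements of the lists of residual maximal subgroups (helper533)

`L3`, `L4`, `L5`, `L6`, `L7`, `L8`: `S5779`, `S5785`, `S5797`, `S5803`, `S5812`, `S5821` over `Type`.
-/

set_option autoImplicit false
set_option linter.unusedVariables false

namespace Cfsg.Agent.H533.Reg

open Cfsg

/-- the statement of `S5779` -/
def L3 : Prop := ∀ {F : Type} [Field F] [Fintype F] (q : ℕ) (hF : Fintype.card F = q ^ 2) (hq : 3 ≤ q) (H : Subgroup (Matrix.GeneralLinearGroup (Fin 3) F)) (hH : Cfsg.Geo.IsMaximalIn (Cfsg.GU 3 F q ⊓ Cfsg.Geo.specialLinear (Fin 3) F) H) (hS : Cfsg.Geo.InUnitaryResidualClass H),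
    ∃ P : Subgroup (Matrix.GeneralLinearGroup (Fin 3) F), Cfsg.Geo.IsResidualCore H P ∧ q.Prime ∧
    ((Nonempty ((P ⧸ (Cfsg.Geo.scalars (Fin 3) F).subgroupOf P) ≃* Matrix.ProjectiveSpecialLinearGroup (Fin 3) (ZMod 2)) ∧ q ≠ 5 ∧ (q % 7 = 3 ∨ q % 7 = 5 ∨ q % 7 = 6)) ∨
     (Nonempty ((P ⧸ (Cfsg.Geo.scalars (Fin 3) F).subgroupOf P) ≃* alternatingGroup (Fin 6)) ∧ (q % 15 = 11 ∨ q % 15 = 14 ∨ q = 5)) ∨
     (Nonempty ((P ⧸ (Cfsg.Geo.scalars (Fin 3) F).subgroupOf P) ≃* alternatingGroup (Fin 7)) ∧ q = 5))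

/-- the statement of `S5785` -/
def L4 : Prop := ∀ {F : Type} [Field F] [Fintype F] (q : ℕ) (hF : Fintype.card F = q ^ 2) (H : Subgroup (Matrix.GeneralLinearGroup (Fin 4) F)) (hH : Cfsg.Geo.IsMaximalIn (Cfsg.GU 4 F q ⊓ Cfsg.Geo.specialLinear (Fin 4) F) H) (hS : Cfsg.Geo.InUnitaryResidualClass H),
    ∃ P : Subgroup (Matrix.GeneralLinearGroup (Fin 4) F), Cfsg.Geo.IsResidualCore H P ∧ q.Prime ∧
    ((Nonempty ((P ⧸ (Cfsg.Geo.scalars (Fin 4) F).subgroupOf P) ≃* alternatingGroup (Fin 7)) ∧ (q % 7 = 3 ∨ q % 7 = 5 ∨ q % 7 = 6)) ∨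
     ((∃ (K : Type) (_ : Field K) (_ : Fintype K), Fintype.card K = 4 ∧ Nonempty ((P ⧸ (Cfsg.Geo.scalars (Fin 4) F).subgroupOf P) ≃* Matrix.ProjectiveSpecialLinearGroup (Fin 3) K)) ∧ q = 3) ∨
     ((∃ (K : Type) (_ : Field K) (_ : Fintype K), Fintype.card K = 4 ∧ Nonempty ((P ⧸ (Cfsg.Geo.scalars (Fin 4) F).subgroupOf P) ≃* Cfsg.PSU 4 K 2)) ∧ q % 6 = 5))

/-- the statement of `S5797` -/
def L5 : Prop := ∀ {F : Type} [Field F] [Fintype F] (q : ℕ) (hF : Fintype.card F = q ^ 2) (H : Subgroup (Matrix.GeneralLinearGroup (Fin 5) F)) (hH : Cfsg.Geo.IsMaximalIn (Cfsg.GU 5 F q ⊓ Cfsg.Geo.specialLinear (Fin 5) F) H) (hS : Cfsg.Geo.InUnitaryResidualClass H),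
    ∃ P : Subgroup (Matrix.GeneralLinearGroup (Fin 5) F), Cfsg.Geo.IsResidualCore H P ∧ q.Prime ∧
    ((Nonempty ((P ⧸ (Cfsg.Geo.scalars (Fin 5) F).subgroupOf P) ≃* Matrix.ProjectiveSpecialLinearGroup (Fin 2) (ZMod 11)) ∧ (q % 11 = 2 ∨ q % 11 = 6 ∨ q % 11 = 7 ∨ q % 11 = 8 ∨ q % 11 = 10)) ∨
     ((∃ (K : Type) (_ : Field K) (_ : Fintype K), Fintype.card K = 4 ∧ Nonempty ((P ⧸ (Cfsg.Geo.scalars (Fin 5) F).subgroupOf P) ≃* Cfsg.PSU 4 K 2)) ∧ q % 6 = 5))

/-- the statement of `S5803` -/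
def L6 : Prop := ∀ {F : Type} [Field F] [Fintype F] (q : ℕ) (hF : Fintype.card F = q ^ 2) (H : Subgroup (Matrix.GeneralLinearGroup (Fin 6) F)) (hH : Cfsg.Geo.IsMaximalIn (Cfsg.GU 6 F q ⊓ Cfsg.Geo.specialLinear (Fin 6) F) H) (hS : Cfsg.Geo.InUnitaryResidualClass H),
    ∃ P : Subgroup (Matrix.GeneralLinearGroup (Fin 6) F), Cfsg.Geo.IsResidualCore H P ∧
    ((Nonempty ((P ⧸ (Cfsg.Geo.scalars (Fin 6) F).subgroupOf P) ≃* Matrix.ProjectiveSpecialLinearGroup (Fin 2) (ZMod 11)) ∧ q.Prime ∧ q ≠ 2 ∧ (q % 11 = 2 ∨ q % 11 = 6 ∨ q % 11 = 7 ∨ q % 11 = 8 ∨ q % 11 = 10)) ∨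
     (Nonempty ((P ⧸ (Cfsg.Geo.scalars (Fin 6) F).subgroupOf P) ≃* alternatingGroup (Fin 7)) ∧ q.Prime ∧ (q % 24 = 17 ∨ q % 24 = 23)) ∨
     ((∃ (K : Type) (_ : Field K) (_ : Fintype K), Fintype.card K = 4 ∧ Nonempty ((P ⧸ (Cfsg.Geo.scalars (Fin 6) F).subgroupOf P) ≃* Matrix.ProjectiveSpecialLinearGroup (Fin 3) K)) ∧ q.Prime ∧ (q % 24 = 5 ∨ q % 24 = 23)) ∨
     (Cfsg.Spor.IsoM22 (P ⧸ (Cfsg.Geo.scalars (Fin 6) F).subgroupOf P) ∧ q = 2) ∨
     ((∃ (K : Type) (_ : Field K) (_ : Fintype K), Fintype.card K = 9 ∧ Nonempty ((P ⧸ (Cfsg.Geo.scalars (Fin 6) F).subgroupOf P) ≃* Cfsg.PSU 4 K 3)) ∧ (q = 2 ∨ (q.Prime ∧ (q % 12 = 5 ∨ q % 12 = 11)))) ∨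
     (Nonempty ((P ⧸ (Cfsg.Geo.scalars (Fin 6) F).subgroupOf P) ≃* Cfsg.PSU 3 F q) ∧ Odd q))

/-- the statement of `S5812` -/
def L7 : Prop := ∀ {F : Type} [Field F] [Fintype F] (q : ℕ) (hF : Fintype.card F = q ^ 2) (H : Subgroup (Matrix.GeneralLinearGroup (Fin 7) F)) (hH : Cfsg.Geo.IsMaximalIn (Cfsg.GU 7 F q ⊓ Cfsg.Geo.specialLinear (Fin 7) F) H) (hS : Cfsg.Geo.InUnitaryResidualClass H),
    ∃ P : Subgroup (Matrix.GeneralLinearGroup (Fin 7) F), Cfsg.Geo.IsResidualCore H P ∧ q.Prime ∧ q % 4 = 3 ∧ q ≠ 3 ∧ (∃ (K : Type) (_ : Field K) (_ : Fintype K), Fintype.card K = 9 ∧ Nonempty ((P ⧸ (Cfsg.Geo.scalars (Fin 7) F).subgroupOf P) ≃* Cfsg.PSU 3 K 3))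

/-- the statement of `S5821` -/
def L8 : Prop := ∀ {F : Type} [Field F] [Fintype F] (q : ℕ) (hF : Fintype.card F = q ^ 2) (H : Subgroup (Matrix.GeneralLinearGroup (Fin 8) F)) (hH : Cfsg.Geo.IsMaximalIn (Cfsg.GU 8 F q ⊓ Cfsg.Geo.specialLinear (Fin 8) F) H) (hS : Cfsg.Geo.InUnitaryResidualClass H),
    ∃ P : Subgroup (Matrix.GeneralLinearGroup (Fin 8) F), Cfsg.Geo.IsResidualCore H P ∧ q.Prime ∧ (q % 80 = 11 ∨ q % 80 = 19 ∨ q % 80 = 39 ∨ q % 80 = 51 ∨ q % 80 = 59 ∨ q % 80 = 71 ∨ q % 80 = 31 ∨ q % 80 = 79) ∧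
    (∃ (K : Type) (_ : Field K) (_ : Fintype K), Fintype.card K = 4 ∧ Nonempty ((P ⧸ (Cfsg.Geo.scalars (Fin 8) F).subgroupOf P) ≃* Matrix.ProjectiveSpecialLinearGroup (Fin 3) K))

end Cfsg.Agent.H533.Reg
end

-- part: H533/Reg/Sub
section
/-!
# S3691, `PSU_n(q)`, `n ≤ 8`: proper subgroups of `SU_n(q)`, `n = 3, 5, 7`, containing a primitive prime (helper533)

* `small3`, `small5`, `small7`
-/

set_option autoImplicit false
set_option linter.unusedSectionVars false

namespace Cfsg.Agent.H533.Reg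

open Module Cfsg Cfsg.Geo Cfsg.Agent.LieClassical.HermBasic Cfsg.Agent.H918 Cfsg.Agent.H251.GeoU Cfsg.Agent.H89.Reg
open Cfsg.Agent.H947.El Cfsg.Agent.H907.Mx
open scoped Matrix MatrixGroups

variable {F : Type} [Field F] [Fintype F] {n p f l : ℕ}

theorem card_aut_a7 : Nat.card (MulAut (alternatingGroup (Fin 7))) ∣ 5040 := by
  obtain ⟨ψ, hψ⟩ := Cfsg.Agent.StandardComponent.AltAut.exists_autHom 7 le_rfl
  have hinj : Function.Injective ψ := by
    rw [injective_iff_map_eq_one]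
    intro e he
    ext x : 2
    rw [hψ, he]
    simp
  have h1 : Nat.card (MulAut (alternatingGroup (Fin 7))) ∣ Nat.card (Equiv.Perm (Fin 7)) :=
    Subgroup.card_dvd_of_injective ψ hinj
  rw [Nat.card_eq_fintype_card (α := Equiv.Perm (Fin 7)), Fintype.card_perm, Fintype.card_fin] at h1
  exact h1

theorem card_aut_l32 : Nat.card (MulAut (Matrix.ProjectiveSpecialLinearGroup (Fin 3) (ZMod 2))) ≤ 1440 := by
  have : Fact (Nat.Prime 2) := ⟨Nat.prime_two⟩
  rw [Cfsg.Agent.S0813.result (F := ZMod 2) 2 1 le_rfl (by rw [ZMod.card, pow_one]) 3 (by norm_num) (by norm_num)]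
  rw [if_neg (by norm_num)]
  have h2 : Nat.card (GL (Fin 3) (ZMod 2)) = 168 := by
    rw [Matrix.card_GL_field, ZMod.card, Fin.prod_univ_three]
    norm_num
  have h3 : Nat.card (Matrix.ProjGenLinGroup (Fin 3) (ZMod 2)) ∣ 168 := by
    rw [← h2]
    exact Subgroup.card_quotient_dvd_card _
  have := Nat.le_of_dvd (by norm_num) h3
  omega

theorem card_aut_u33 {K : Type*} [Field K] [Fintype K] (hK : Fintype.card K = 9) :
    Nat.card (MulAut (Cfsg.PSU 3 K 3)) ≤ 12096 := by
  have : Fact (Nat.Prime 3) := ⟨Nat.prime_three⟩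
  have hK' : Fintype.card K = 3 ^ 2 := by rw [hK]; norm_num
  rw [Cfsg.Agent.S0815.result (F := K) 3 1 le_rfl (by norm_num) hK' 3 (by norm_num) (by norm_num)]
  have h2 : Nat.card (Cfsg.SU 3 K 3) = 6048 := by
    rw [Cfsg.Agent.H948.UProd.card_SU hK' (by norm_num)]
    simp only [Finset.prod_range_succ, Cfsg.Agent.H948.UProd.ph, Nat.even_iff, _root_.Nat.add_one_sub_one, _root_.Nat.reduceMul, _root_.Nat.reduceDiv, _root_.Nat.reducePow, _root_.Finset.range_one, _root_.Finset.prod_singleton, _root_.zero_add, _root_.Nat.mod_succ, _root_.one_ne_zero, ↓ _root_.reduceIte, _root_.Nat.reduceAdd, _root_.Nat.mod_self]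
  have h3 : Nat.card (Cfsg.PSU 3 K 3) ∣ 6048 := by
    rw [← h2]
    exact Subgroup.card_quotient_dvd_card _
  have h4 : Nat.gcd 3 (3 + 1) * (2 * 1) = 2 := by decide
  rw [h4]
  have := Nat.le_of_dvd (by norm_num) h3
  omega

theorem card_aut_u43 {K : Type*} [Field K] [Fintype K] (hK : Fintype.card K = 9) :
    Nat.card (MulAut (Cfsg.PSU 4 K 3)) ≤ 104509440 := by
  have : Fact (Nat.Prime 3) := ⟨Nat.prime_three⟩
  have hK' : Fintype.card K = 3 ^ 2 := by rw [hK]; norm_num
  rw [Cfsg.Agent.S0815.result (F := K) 3 1 le_rfl (by norm_num) hK' 4 (by norm_num) (by norm_num)]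
  have h2 : Nat.card (Cfsg.SU 4 K 3) = 13063680 := by
    rw [Cfsg.Agent.H948.UProd.card_SU hK' (by norm_num)]
    simp only [Finset.prod_range_succ, Cfsg.Agent.H948.UProd.ph, Nat.even_iff, _root_.Nat.add_one_sub_one, _root_.Nat.reduceMul, _root_.Nat.reduceDiv, _root_.Nat.reducePow, _root_.Finset.range_one, _root_.Finset.prod_singleton, _root_.zero_add, _root_.Nat.mod_succ, _root_.one_ne_zero, ↓ _root_.reduceIte, _root_.Nat.reduceAdd, _root_.Nat.mod_self, _root_.Nat.reduceMod]
  have h3 : Nat.card (Cfsg.PSU 4 K 3) ∣ 13063680 := by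
    rw [← h2]
    exact Subgroup.card_quotient_dvd_card _
  have h4 : Nat.gcd 4 (3 + 1) * (2 * 1) = 8 := by decide
  rw [h4]
  have := Nat.le_of_dvd (by norm_num) h3
  omega

theorem card_aut_l34 {K : Type*} [Field K] [Fintype K] (hK : Fintype.card K = 4) :
    Nat.card (MulAut (Matrix.ProjectiveSpecialLinearGroup (Fin 3) K)) ≤ 725760 := by
  have : Fact (Nat.Prime 2) := ⟨Nat.prime_two⟩
  rw [Cfsg.Agent.S0813.result (F := K) 2 2 (by norm_num) (by rw [hK]; norm_num) 3 (by norm_num) (by norm_num)]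
  rw [if_neg (by norm_num)]
  have h2 : Nat.card (GL (Fin 3) K) = 181440 := by
    rw [Matrix.card_GL_field, hK, Fin.prod_univ_three]
    norm_num
  have h3 : Nat.card (Matrix.ProjGenLinGroup (Fin 3) K) ∣ 181440 := by
    rw [← h2]
    exact Subgroup.card_quotient_dvd_card _
  have := Nat.le_of_dvd (by norm_num) h3
  omega

/-- `q` prime -/
theorem f_one (h : (p ^ f).Prime) : f = 1 := (Nat.Prime.eq_one_of_pow h)

theorem pn_of_pm (hF : Fintype.card F = (p ^ f) ^ 2) (hp : p.Prime) (hf : 1 ≤ f) (hl : Pm p f 3 l) :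
    PN F p f (p ^ f) l where
  pp := hp
  n0 := hf
  qp := rfl
  cF := by rw [hF, ← pow_mul, mul_comm]
  pr := hl.pr
  iff := hl.iff
  dv := hl.dvd_pred hp hf (by norm_num)
  rp := hl.not_dvd_p hp hf (by norm_num)

section

variable (hF : Fintype.card F = (p ^ f) ^ 2) (hp : p.Prime) (hf : 1 ≤ f)

include hF hp hf

theorem small3 (hL3 : L3) (hq : 6 ≤ p ^ f) (hl : Pm p f 3 l) {A : Subgroup (SU 3 F (p ^ f))} (hA : A ≠ ⊤) (hd : l ∣ Nat.card A) :
    (p ^ f + 1) * Nat.card A ≤ 3 ^ 2 * ((p ^ f) ^ 3 + 1) ∨ (f = 1 ∧ Nat.card A ≤ 4320) := by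
  obtain ⟨H, hH, hAH⟩ := exists_max hA
  have hfinG : Finite (GL (Fin 3) F) := inferInstance
  have hcA : Nat.card (A.map (suHom 3 F (p ^ f))) = Nat.card A := Subgroup.card_map_of_injective suHom_injective
  have hle : Nat.card A ≤ Nat.card H := by
    rw [← hcA]
    exact Nat.card_le_card_of_injective (Subgroup.inclusion hAH) (Subgroup.inclusion_injective hAH)
  have h := pn_of_pm hF hp hf hl
  have hlp := hl.pr
  obtain ⟨g, hgA, hgl, hg1, -⟩ := Cfsg.Agent.H89.Reg.exists_elt hl.pr hd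
  set x : GL (Fin 3) F := suHom 3 F (p ^ f) g with hx
  have hxH : x ∈ H := hAH ⟨g, hgA, rfl⟩
  have hX : x ^ l = 1 := by rw [hx, ← map_pow, hgl, map_one]
  have hX1 : x ≠ 1 := fun h1 => hg1 (suHom_injective (by rw [map_one]; exact h1))
  have hM : (x : Matrix (Fin 3) (Fin 3) F) ^ l = 1 := by
    rw [← Units.val_pow_eq_pow_val, hX, Units.val_one]
  have hM1 : (x : Matrix (Fin 3) (Fin 3) F) ≠ 1 := by
    intro h8
    exact hX1 (Units.ext (by rw [h8, Units.val_one]))
  rcases Cfsg.Agent.S5778.result (p ^ f) hF (by omega) H hH with ⟨W, hW0, hWs, he⟩ | ⟨W, hW0, hWn, hW3, he⟩ | ⟨-, D, hD, he⟩ |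
    ⟨-, -, K, hK, hadj, he⟩ | ⟨F₀, l, P, hl, hlo, hc, -, he⟩ | ⟨-, -, F₀, P, hc, -, he⟩ |
    ⟨p', R, hp', -, -, h11, -, hirr, -, h27, h3, he⟩ | hres
  · exfalso
    rw [he] at hxH
    refine h.no_sub hM hM1 hW0 ?_ (fun v hv => (hxH.1 v).1 hv)
    rintro rfl
    have h1 := hWs (Pi.single 0 1) trivial (Pi.single 0 1) trivial
    have hq0 : p ^ f ≠ 0 := by omega
    simp [hermForm, Fin.sum_univ_three, zero_pow hq0] at h1
  · exfalso
    rw [he] at hxH
    refine h.no_sub hM hM1 hW0 ?_ (fun v hv => (hxH.1 v).1 hv)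
    rintro rfl
    rw [finrank_top, Module.finrank_fin_fun] at hW3
    omega
  · exfalso
    rw [he] at hxH
    exact h.no_dec hX hX1 hD.decomp.finrank_eq hxH.1
  · left
    have h1 := card_field_le hF (by norm_num) (by decide) hK hadj
    refine le_trans ?_ h1
    rw [← he]
    exact Nat.mul_le_mul_left _ hle
  · exfalso
    rw [he] at hxH
    exact h.no_subfield hX hX1 hl.two_le hc hxH.1
  · exfalso
    rw [he] at hxH
    exact h.no_subfield hX hX1 le_rfl hc hxH.1
  · exfalso
    rw [he] at hxH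
    have h5 : 5 ≤ l := by have := h.ge; have := h.n0; omega
    exact h.no_scalar hX hX1 (symp_prime hirr h27 h3 hxH.1 h.pr h5 hX)
  · right
    obtain ⟨P, hcore, hqp, hcases⟩ := hL3 (p ^ f) hF (by omega) H hH hres
    refine ⟨f_one hqp, ?_⟩
    have h1 := card_res_le (by norm_num) hcore (hH.1.le.trans inf_le_right)
    have h2 : Nat.card (MulAut (P ⧸ (scalars (Fin 3) F).subgroupOf P)) ≤ 1440 := by
      rcases hcases with ⟨⟨e⟩, -, -⟩ | ⟨⟨e⟩, -⟩ | ⟨⟨e⟩, hq5⟩
      · rw [Nat.card_congr (MulAut.congr e).toEquiv]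
        exact card_aut_l32
      · rw [Nat.card_congr (MulAut.congr e).toEquiv]
        exact Nat.le_of_dvd (by norm_num) H753.ResCard.card_mulAut_A6
      · omega
    omega

/-- the maximal overgroup for `n = 5, 7` -/
theorem odd_gen (hn : 4 ≤ n) (hno : Odd n) (hnp : n.Prime) (hl : Pm p f n l) {A : Subgroup (SU n F (p ^ f))} (hA : A ≠ ⊤)
    (hd : l ∣ Nat.card A) :
    (p ^ f + 1) * Nat.card A ≤ n ^ 2 * ((p ^ f) ^ n + 1) ∨
      ∃ H : Subgroup (GL (Fin n) F), IsMaximalIn (SUg n F (p ^ f)) H ∧ Nat.card A ≤ Nat.card H ∧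
        InUnitaryResidualClass H := by
  obtain ⟨H, hH, hAH⟩ := exists_max hA
  have hfinG : Finite (GL (Fin n) F) := inferInstance
  have hcA : Nat.card (A.map (suHom n F (p ^ f))) = Nat.card A := Subgroup.card_map_of_injective suHom_injective
  have hle : Nat.card A ≤ Nat.card H := by
    rw [← hcA]
    exact Nat.card_le_card_of_injective (Subgroup.inclusion hAH) (Subgroup.inclusion_injective hAH)
  have hdH : l ∣ Nat.card H := (hcA ▸ hd).trans (Subgroup.card_dvd_of_le hAH)
  rcases Cfsg.Agent.S5663.result n (p ^ f) hF (by omega) (by omega) H hH.1.le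
    (Cfsg.Agent.H918.sup_scalars_ne hF (by omega) (by omega) hH) with ⟨M, hM, hHM⟩ | hres
  · left
    rcases class_gen hF hp hf hn hno le_rfl (by omega) hl hM (hdH.trans (Subgroup.card_dvd_of_le hHM)) with
      ⟨h1, -⟩ | ⟨-, r, K, hr, -, hK, hadj, rfl⟩
    · omega
    · have hne : Nonempty (Fin n) := ⟨⟨0, by omega⟩⟩
      have h1 := H912.finrank_dvd_of_fieldSub hK
      rw [Fintype.card_fin] at h1
      have h2 : r = n := (Nat.prime_dvd_prime_iff_eq hr hnp).1 h1
      subst h2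
      refine le_trans (Nat.mul_le_mul_left _ (hle.trans ?_)) (card_field_le hF (by omega) hno hK hadj)
      have h3 : H ≤ (subalgebraNormalizer K ⊓ SUg r F (p ^ f) : Subgroup (GL (Fin r) F)) :=
        le_inf (hHM.trans inf_le_left) hH.1.le
      exact Nat.card_le_card_of_injective (Subgroup.inclusion h3) (Subgroup.inclusion_injective h3)
  · exact Or.inr ⟨H, hH, hle, hres⟩

theorem small5 (hL5 : L5) (hl : Pm p f 5 l) {A : Subgroup (SU 5 F (p ^ f))} (hA : A ≠ ⊤)
    (hd : l ∣ Nat.card A) :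
    (p ^ f + 1) * Nat.card A ≤ 5 ^ 2 * ((p ^ f) ^ 5 + 1) ∨ (f = 1 ∧ Nat.card A ≤ 259200) := by
  rcases odd_gen hF hp hf (by norm_num) (by decide) (by norm_num) hl hA hd with h | ⟨H, hH, hle, hres⟩
  · exact Or.inl h
  · right
    obtain ⟨P, hcore, hqp, hcases⟩ := hL5 (p ^ f) hF H hH hres
    refine ⟨f_one hqp, ?_⟩
    have h1 := card_res_le (by norm_num) hcore (hH.1.le.trans inf_le_right)
    have h2 : Nat.card (MulAut (P ⧸ (scalars (Fin 5) F).subgroupOf P)) ≤ 51840 := by
      rcases hcases with ⟨⟨e⟩, -⟩ | ⟨⟨K, _, _, hK, ⟨e⟩⟩, -⟩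
      · rw [Nat.card_congr (MulAut.congr e).toEquiv]
        exact (Nat.le_of_dvd (by norm_num) H269.U5.card_aut_l211).trans (by norm_num)
      · rw [Nat.card_congr (MulAut.congr e).toEquiv]
        exact Nat.le_of_dvd (by norm_num) (H269.U5.card_aut_u42 hK)
    omega

theorem small7 (hL7 : L7) (hl : Pm p f 7 l) {A : Subgroup (SU 7 F (p ^ f))} (hA : A ≠ ⊤)
    (hd : l ∣ Nat.card A) :
    (p ^ f + 1) * Nat.card A ≤ 7 ^ 2 * ((p ^ f) ^ 7 + 1) ∨ (f = 1 ∧ Nat.card A ≤ 84672) := by
  rcases odd_gen hF hp hf (by norm_num) (by decide) (by norm_num) hl hA hd with h | ⟨H, hH, hle, hres⟩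
  · exact Or.inl h
  · right
    obtain ⟨P, hcore, hqp, -, -, K, _, _, hK, ⟨e⟩⟩ := hL7 (p ^ f) hF H hH hres
    refine ⟨f_one hqp, ?_⟩
    have h1 := card_res_le (by norm_num) hcore (hH.1.le.trans inf_le_right)
    have h2 : Nat.card (MulAut (P ⧸ (scalars (Fin 7) F).subgroupOf P)) ≤ 12096 := by
      rw [Nat.card_congr (MulAut.congr e).toEquiv]
      exact card_aut_u33 hK
    omega

end

end Cfsg.Agent.H533.Reg
end

-- part: H89/Reg/Line
section
/-!
# S3691, row `PSU_N(q)`: overgroups of the stabiliser of a nonsingular vector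

* `exists_move` : `SU_n(q)` is transitive on the nonsingular lines;
* `line_of_stab` : a proper subgroup containing the stabiliser of a nonsingular vector fixes its line.
-/

set_option autoImplicit false
set_option linter.unusedSectionVars false

namespace Cfsg.Agent.H89.Reg

open Cfsg Cfsg.Geo Module Matrix
open Cfsg.Agent.LieClassical.HermBasic Cfsg.Agent.ClassicalGeometry.HermOrtho
open Cfsg.Agent.LieClassical.HermSiegel (act mat act_mul act_one act_inv_act act_act_inv herm_act act_smul act_add)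
open Cfsg.Agent.GpUn (fx mem_fx ND fixG mem_fixG exists_equiv)

variable {F : Type*} [Field F] [Fintype F] {n q : ℕ}

theorem ne_zero_of_ns {w : Fin n → F} (hw : hermForm n F q w w ≠ 0) : w ≠ 0 := by
  rintro rfl
  exact hw (herm_zero_left _)

theorem nd_line {w : Fin n → F} (hw : hermForm n F q w w ≠ 0) : ND q (F ∙ w) := by
  intro u hu h
  obtain ⟨c, rfl⟩ := Submodule.mem_span_singleton.1 hu
  have h1 := h w (Submodule.mem_span_singleton_self w)
  rw [herm_smul_left] at h1
  rcases mul_eq_zero.1 h1 with h2 | h2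
  · rw [h2, zero_smul]
  · exact absurd h2 hw

/-- a nonsingular vector orthogonal to a nondegenerate subspace -/
theorem exists_perp_ns (hF : Fintype.card F = q ^ 2) {W : Submodule F (Fin n → F)} (hW : ND q W)
    (hlt : finrank F W < n) : ∃ z, hermForm n F q z z = 1 ∧ ∀ v ∈ W, hermForm n F q z v = 0 := by
  have h1 := finrank_hermPerp_of_nondeg hF W hW
  obtain ⟨z, hz, hzz⟩ := exists_norm_one_vector hF _ (hermPerp_nondeg hF W hW) (by
    intro h0
    rw [h0, finrank_bot] at h1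
    omega)
  exact ⟨z, hzz, fun v hv => hz v hv⟩

/-- `SU_n(q)` is transitive on the nonsingular lines -/
theorem exists_move (hF : Fintype.card F = q ^ 2) (hn : 2 ≤ n) {v w : Fin n → F} (hv : hermForm n F q v v ≠ 0)
    (hw : hermForm n F q w w ≠ 0) : ∃ (x : SU n F q) (c : F), c ≠ 0 ∧ act x v = c • w := by
  obtain ⟨c, hc0, hc⟩ := exists_norm_eq_ne hF (c := hermForm n F q v v / hermForm n F q w w)
    (by rw [div_pow, herm_self_pow hF, herm_self_pow hF]) (div_ne_zero hv hw)
  have hww : hermForm n F q (c • w) (c • w) = hermForm n F q v v := by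
    rw [herm_smul_left, herm_smul_right, ← mul_assoc, hc, div_mul_cancel₀ _ hw]
  obtain ⟨z, hz, hzw⟩ := exists_perp_ns hF (nd_line hw) (by rw [finrank_span_singleton (ne_zero_of_ns hw)]; omega)
  obtain ⟨g, hg⟩ := Cfsg.Agent.H77.Witt.exists_su_ext hF (k := 1) ![v] ![c • w]
    (linearIndependent_unique_iff.2 (ne_zero_of_ns hv))
    (linearIndependent_unique_iff.2 (smul_ne_zero hc0 (ne_zero_of_ns hw)))
    (by intro i j; fin_cases i; fin_cases j; exact hww.symm) (z := z) (by rw [hz]; exact one_ne_zero)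
    (by
      intro i
      fin_cases i
      exact hzw _ (Submodule.smul_mem _ _ (Submodule.mem_span_singleton_self w)))
  exact ⟨g, c, hc0, hg 0⟩

/-- the stabiliser of a nonsingular vector `w` is transitive on the singular points outside `w^⊥` -/
theorem exists_fix_move (hF : Fintype.card F = q ^ 2) (hn : 3 ≤ n) {w u v : Fin n → F}
    (hu : hermForm n F q u u = 0) (hv : hermForm n F q v v = 0)
    (huw : hermForm n F q u w ≠ 0) (hvw : hermForm n F q v w ≠ 0) :
    ∃ (g : SU n F q) (c : F), act g w = w ∧ act g u = c • v := by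
  set c := hermForm n F q u w / hermForm n F q v w with hc
  have hc0 : c ≠ 0 := div_ne_zero huw hvw
  have hcv : hermForm n F q (c • v) w = hermForm n F q u w := by rw [herm_smul_left, hc, div_mul_cancel₀ _ hvw]
  have hcv' : hermForm n F q (c • v) w ≠ 0 := by rw [hcv]; exact huw
  have hcvv : hermForm n F q (c • v) (c • v) = 0 := by rw [herm_smul_left, herm_smul_right, hv, mul_zero, mul_zero]
  have hwu : ∀ {x : Fin n → F}, hermForm n F q x w ≠ 0 → hermForm n F q w x ≠ 0 := fun h h1 =>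
    h (herm_eq_zero_swap hF h1)
  have hli : ∀ {x : Fin n → F}, hermForm n F q x x = 0 → hermForm n F q x w ≠ 0 →
      LinearIndependent F ![w, x] := by
    intro x hx hxw
    rw [LinearIndependent.pair_iff]
    intro s t hst
    have h1 : hermForm n F q (s • w + t • x) x = 0 := by rw [hst]; exact herm_zero_left _
    rw [herm_add_left, herm_smul_left, herm_smul_left, hx, mul_zero, add_zero] at h1
    have hs : s = 0 := (mul_eq_zero.1 h1).resolve_right (hwu hxw)
    have h2 : hermForm n F q (s • w + t • x) w = 0 := by rw [hst]; exact herm_zero_left _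
    rw [hs, zero_smul, zero_add, herm_smul_left] at h2
    exact ⟨hs, (mul_eq_zero.1 h2).resolve_right hxw⟩
  set W := Submodule.span F (Set.range ![w, c • v]) with hW
  have hwW : w ∈ W := Submodule.subset_span ⟨0, rfl⟩
  have hvW : c • v ∈ W := Submodule.subset_span ⟨1, rfl⟩
  have hWnd : ND q W := by
    intro x hx h
    rw [hW, Matrix.range_cons, Matrix.range_cons, Matrix.range_empty, Set.union_empty, Set.singleton_union,
      Submodule.mem_span_pair] at hx
    obtain ⟨s, t, rfl⟩ := hx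
    have h1 := h _ hvW
    rw [herm_add_left, herm_smul_left, herm_smul_left t, hcvv, mul_zero, add_zero] at h1
    have hs : s = 0 := (mul_eq_zero.1 h1).resolve_right (hwu hcv')
    have h2 := h _ hwW
    rw [hs, zero_smul, zero_add, herm_smul_left] at h2
    rw [hs, (mul_eq_zero.1 h2).resolve_right hcv', zero_smul, zero_smul, add_zero]
  have hWd : finrank F W ≤ 2 := by
    have := finrank_range_le_card (R := F) ![w, c • v]
    rwa [Fintype.card_fin] at this
  obtain ⟨z, hz, hzW⟩ := exists_perp_ns hF hWnd (by omega)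
  obtain ⟨g, hg⟩ := Cfsg.Agent.H77.Witt.exists_su_ext hF (k := 2) ![w, u] ![w, c • v] (hli hu huw) (hli hcvv hcv')
    (by
      intro i j
      fin_cases i <;> fin_cases j
      · rfl
      · change hermForm n F q w u = hermForm n F q w (c • v)
        rw [herm_swap hF u w, herm_swap hF (c • v) w, hcv]
      · exact hcv.symm
      · exact hu.trans hcvv.symm) (z := z) (by rw [hz]; exact one_ne_zero)
    (by
      intro i
      exact hzW _ (Submodule.subset_span ⟨i, rfl⟩))
  exact ⟨g, c, hg 0, hg 1⟩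

/-- singular vectors of a nondegenerate space -/
theorem exists_sing (hF : Fintype.card F = q ^ 2) {U : Submodule F (Fin n → F)} (hU : ND q U) (h2 : 2 ≤ finrank F U)
    {x : Fin n → F} (hx : x ∈ U) (hx0 : x ≠ 0) : ∃ u ∈ U, hermForm n F q u u = 0 ∧ hermForm n F q u x ≠ 0 := by
  by_cases hxx : hermForm n F q x x = 0
  · obtain ⟨y, hy, hxy⟩ : ∃ y ∈ U, hermForm n F q x y ≠ 0 := by
      by_contra hcon
      push Not at hcon
      exact hx0 (hU x hx hcon)
    obtain ⟨τ, hτ⟩ := exists_trace_eq hF (c := -hermForm n F q y y) (by rw [neg_pow_q hF, herm_self_pow hF])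
    have hyx : hermForm n F q y x = hermForm n F q x y ^ q := herm_swap hF x y
    refine ⟨y + (τ / hermForm n F q x y) • x, U.add_mem hy (U.smul_mem _ hx), ?_, ?_⟩
    · rw [herm_add_left, herm_add_right hF, herm_add_right hF, herm_smul_left, herm_smul_left, herm_smul_right,
        herm_smul_right, hxx, mul_zero, mul_zero, add_zero, hyx, div_pow, div_mul_cancel₀ _ (pow_ne_zero _ hxy),
        div_mul_cancel₀ _ hxy]
      linear_combination hτ
    · rw [herm_add_left, herm_smul_left, hxx, mul_zero, add_zero, hyx]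
      exact pow_ne_zero _ hxy
  · obtain ⟨y, hy, hyx⟩ : ∃ y ∈ U, y ∉ (F ∙ x) := by
      by_contra hcon
      push Not at hcon
      have h3 : U ≤ F ∙ x := hcon
      have h4 := Submodule.finrank_mono h3
      rw [finrank_span_singleton hx0] at h4
      omega
    set U' := U ⊓ hermPerp q ((F ∙ x : Submodule F (Fin n → F)) : Set (Fin n → F)) with hU'
    have hdec : ∀ y ∈ U, ∃ y' ∈ U', ∃ t : F, y = y' + t • x := by
      intro y hy
      refine ⟨y - (hermForm n F q y x / hermForm n F q x x) • x, ⟨U.sub_mem hy (U.smul_mem _ hx), ?_⟩, _,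
        (sub_add_cancel _ _).symm⟩
      intro v hv
      obtain ⟨c, rfl⟩ := Submodule.mem_span_singleton.1 hv
      rw [sub_eq_add_neg, ← neg_smul, herm_add_left, herm_smul_left, herm_smul_right, herm_smul_right]
      field_simp
      ring
    have hU'x : ∀ y ∈ U', hermForm n F q y x = 0 := fun y hy => hy.2 x (Submodule.mem_span_singleton_self x)
    have hU'nd : ND q U' := by
      intro a ha h
      apply hU a ha.1
      intro y hy
      obtain ⟨y', hy', t, rfl⟩ := hdec y hy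
      rw [herm_add_right hF, h y' hy', herm_smul_right, hU'x a ha, mul_zero, add_zero]
    obtain ⟨z, hz, hzz⟩ := exists_norm_one_vector hF U' hU'nd (by
      intro h0
      obtain ⟨y', hy', t, rfl⟩ := hdec y hy
      rw [h0, Submodule.mem_bot] at hy'
      rw [hy', zero_add] at hyx
      exact hyx (Submodule.smul_mem _ _ (Submodule.mem_span_singleton_self x)))
    obtain ⟨β, hβ⟩ := _root_.Cfsg.Agent.LieClassical.HermBasic.exists_norm_eq hF (c := -hermForm n F q x x) (by rw [neg_pow_q hF, herm_self_pow hF])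
    have hzx := hU'x z hz
    have hxz := herm_eq_zero_swap hF hzx
    refine ⟨x + β • z, U.add_mem hx (U.smul_mem _ hz.1), ?_, ?_⟩
    · rw [herm_add_left, herm_add_right hF, herm_add_right hF, herm_smul_left, herm_smul_left, herm_smul_right,
        herm_smul_right, hzx, hxz, hzz]
      linear_combination hβ
    · rw [herm_add_left, herm_smul_left, hzx, mul_zero, add_zero]
      exact hxx

open Cfsg.Agent.ClassicalGeometry.UnitTransv (utv act_utv) in
/-- **Line lemma.** -/
theorem line_of_stab (hF : Fintype.card F = q ^ 2) (hn : 3 ≤ n) (h32 : ¬ (n = 3 ∧ q = 2)) {H : Subgroup (SU n F q)}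
    (hH : H ≠ ⊤) {w : Fin n → F} (hw : hermForm n F q w w ≠ 0) (hst : ∀ g : SU n F q, act g w = w → g ∈ H) :
    ∀ g ∈ H, ∃ c : F, act g w = c • w := by
  by_contra hcon
  push Not at hcon
  obtain ⟨h, hh, hhw⟩ := hcon
  apply hH
  set w2 := act h w with hw2
  have hw2n : hermForm n F q w2 w2 ≠ 0 := by rw [hw2, herm_act]; exact hw
  have hst2 : ∀ g : SU n F q, act g w2 = w2 → g ∈ H := by
    intro g hg
    have h1 : h⁻¹ * g * h ∈ H := by
      apply hst
      rw [act_mul, act_mul, ← hw2, hg, hw2, act_inv_act]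
    have h2 := H.mul_mem (H.mul_mem hh h1) (H.inv_mem hh)
    have h3 : h * (h⁻¹ * g * h) * h⁻¹ = g := by group
    rwa [h3] at h2
  -- a singular vector orthogonal to `w2`, not to `w`
  obtain ⟨u0, hu0, hu02, hu0w⟩ : ∃ u0 : Fin n → F, hermForm n F q u0 u0 = 0 ∧ hermForm n F q w2 u0 = 0 ∧
      hermForm n F q u0 w ≠ 0 := by
    set U := hermPerp q ((F ∙ w2 : Submodule F (Fin n → F)) : Set (Fin n → F)) with hU
    have hUnd : ND q U := hermPerp_nondeg hF _ (nd_line hw2n)
    have hUd := finrank_hermPerp_of_nondeg hF _ (nd_line hw2n)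
    rw [finrank_span_singleton (ne_zero_of_ns hw2n), ← hU] at hUd
    set t := hermForm n F q w w2 / hermForm n F q w2 w2 with ht
    set x := w - t • w2 with hx
    have hxU : x ∈ U := by
      intro v hv
      obtain ⟨c, rfl⟩ := Submodule.mem_span_singleton.1 hv
      rw [hx, sub_eq_add_neg, ← neg_smul, herm_add_left, herm_smul_left, herm_smul_right, herm_smul_right, ht]
      field_simp
      ring
    have hx0 : x ≠ 0 := by
      intro h0
      have h1 : w = t • w2 := sub_eq_zero.1 h0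
      have ht0 : t ≠ 0 := by
        intro h2
        rw [h2, zero_smul] at h1
        exact ne_zero_of_ns hw h1
      apply hhw t⁻¹
      rw [h1, smul_smul, inv_mul_cancel₀ ht0, one_smul]
    obtain ⟨u, hu, huu, hux⟩ := exists_sing hF hUnd (by omega) hxU hx0
    have huw2 : hermForm n F q u w2 = 0 := hu w2 (Submodule.mem_span_singleton_self w2)
    refine ⟨u, huu, herm_eq_zero_swap hF huw2, ?_⟩
    have h1 : w = x + t • w2 := (sub_add_cancel _ _).symm
    rw [h1, herm_add_right hF, herm_smul_right, huw2, mul_zero, add_zero]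
    exact hux
  -- all transvections
  have hT : Cfsg.Agent.ClassicalGeometry.UnitGen.T F n q ≤ H := by
    unfold Cfsg.Agent.ClassicalGeometry.UnitGen.T
    rw [Subgroup.closure_le]
    rintro A ⟨u, c, hu, hA⟩
    rcases Cfsg.Agent.ClassicalGeometry.UnitTransv.eq_one_or_utv hF hu hA with rfl | ⟨-, hc, rfl⟩
    · exact H.one_mem
    have hact : ∀ x : Fin n → F, act (utv hF u c hu hc) x = x + (c * hermForm n F q x u) • u := fun x =>
      act_utv hF hu hc x
    by_cases huw : hermForm n F q u w = 0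
    · apply hst
      rw [hact, herm_eq_zero_swap hF huw, mul_zero, zero_smul, add_zero]
    · obtain ⟨g, c', hgw, hgu⟩ := exists_fix_move hF hn hu hu0 huw hu0w
      have hg : g ∈ H := hst g hgw
      have h1 : g * utv hF u c hu hc * g⁻¹ ∈ H := by
        apply hst2
        have h2 : hermForm n F q (act g⁻¹ w2) u = 0 := by
          rw [← herm_act g, act_act_inv, hgu, herm_smul_right, hu02, mul_zero]
        rw [act_mul, act_mul, hact, h2, mul_zero, zero_smul, add_zero, act_act_inv]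
      have h2 := H.mul_mem (H.mul_mem (H.inv_mem hg) h1) hg
      have h3 : g⁻¹ * (g * utv hF u c hu hc * g⁻¹) * g = utv hF u c hu hc := by group
      rw [h3] at h2
      exact h2
  rw [eq_top_iff, ← Cfsg.Agent.ClassicalGeometry.UnitGenTwo.T_eq_top hF h32]
  exact hT

end Cfsg.Agent.H89.Reg
end

-- part: H89/Reg/Res
section
/-!
# S3691, row `PSU_N(q)`: the residual case (F-U), plug-in

`Y` contains the stabiliser of a nonsingular vector `w`; `K` is the preimage in `SU_N(q)` of `X ∩ T`.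

* `fpf_res` : the elements of `K` of prime order `≠ p` have no nonzero fixed vector;
* `card_res` : `|K| a b = q ^ (N - 1) (q ^ N - (-1) ^ N)`, `a ∣ 2 f (N, q + 1)`, `b ∣ q + 1`;
* `size_res` : the size table.
-/

set_option autoImplicit false
set_option linter.unusedSectionVars false

namespace Cfsg.Agent.H89.Reg

open Cfsg Cfsg.Geo Module Matrix
open Cfsg.Agent.LieClassical.HermBasic Cfsg.Agent.ClassicalGeometry.HermOrtho
open Cfsg.Agent.LieClassical.HermSiegel (act mat act_mul act_one act_inv_act act_act_inv herm_act act_smul act_add)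
open Cfsg.Agent.GpUn (fx mem_fx ND fixG mem_fixG exists_equiv)
open Cfsg.Agent.H454.Reg
open Cfsg.Agent.H674.SUBlock (pr pr_surjective)
open Cfsg.Agent.H779.DP (rho rho_apply rho_injective)

universe u

section Card

variable {F : Type*} [Field F] [Fintype F] {n q : ℕ}

/-- `|SU_(n+1)(q)|` -/
theorem card_SU_succ (hF : Fintype.card F = q ^ 2) (hn : 1 ≤ n) :
    Nat.card (SU (n + 1) F q) = q ^ n * (if Even n then q ^ (n + 1) + 1 else q ^ (n + 1) - 1) * Nat.card (SU n F q) := by
  have h1 := S0278.result (F := F) hF n hn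
  have h2 := S0278.result (F := F) hF (n + 1) (by omega)
  rw [Finset.prod_range_succ] at h2
  have h3 : (n + 1) * (n + 1 - 1) / 2 = n + n * (n - 1) / 2 := by
    obtain ⟨m, rfl⟩ : ∃ m, n = m + 1 := ⟨n - 1, by omega⟩
    rw [Nat.add_sub_cancel, Nat.add_sub_cancel, show (m + 1 + 1) * (m + 1) = (m + 1) * m + (m + 1) * 2 by ring,
      Nat.add_mul_div_right _ _ (by norm_num)]
    ring
  rw [h3, pow_add] at h2
  have h4 : (q + 1) * Nat.card (SU (n + 1) F q) = (q + 1) *
      (q ^ n * (if Even n then q ^ (n + 1) + 1 else q ^ (n + 1) - 1) * Nat.card (SU n F q)) := by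
    rw [h2]
    calc q ^ n * q ^ (n * (n - 1) / 2) * ((∏ i ∈ Finset.range n, (if Even i then q ^ (i + 1) + 1 else q ^ (i + 1) - 1)) *
          (if Even n then q ^ (n + 1) + 1 else q ^ (n + 1) - 1))
        = q ^ n * (if Even n then q ^ (n + 1) + 1 else q ^ (n + 1) - 1) * (q ^ (n * (n - 1) / 2) *
          (∏ i ∈ Finset.range n, (if Even i then q ^ (i + 1) + 1 else q ^ (i + 1) - 1))) := by ring
      _ = _ := by rw [← h1]; ring
  exact Nat.eq_of_mul_eq_mul_left (Nat.succ_pos q) h4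

theorem card_SU_one (hF : Fintype.card F = q ^ 2) : Nat.card (SU 1 F q) = 1 := by
  have h1 := S0278.result (F := F) hF 1 le_rfl
  rw [Finset.prod_range_one] at h1
  have h2 : (q + 1) * Nat.card (SU 1 F q) = (q + 1) * 1 := by
    rw [h1]
    simp only [_root_.tsub_self, _root_.MulZeroClass.mul_zero, _root_.Nat.zero_div, _root_.pow_zero, _root_.Even.zero, ↓ _root_.reduceIte, _root_.zero_add, _root_.pow_one, _root_.one_mul, _root_.mul_one, _root_.Nat.add_left_cancel_iff]
  exact Nat.eq_of_mul_eq_mul_left (Nat.succ_pos q) h2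

theorem one_le_q (hF : Fintype.card F = q ^ 2) : 1 ≤ q := by
  have := LieClassical.HermBasic.two_le hF
  omega

/-- `|SU_n(q)| ≤ q ^ (n ^ 2 - 1)`, odd and even degrees -/
theorem card_SU_le_aux (hF : Fintype.card F = q ^ 2) (m : ℕ) :
    Nat.card (SU (2 * m + 1) F q) ≤ q ^ ((2 * m + 1) ^ 2 - 1) ∧ Nat.card (SU (2 * m + 2) F q) ≤ q ^ ((2 * m + 2) ^ 2 - 1) := by
  have hq := one_le_q hF
  have key : ∀ {k : ℕ}, Nat.card (SU (2 * k + 1) F q) ≤ q ^ ((2 * k + 1) ^ 2 - 1) →
      Nat.card (SU (2 * k + 2) F q) ≤ q ^ ((2 * k + 2) ^ 2 - 1) := by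
    intro k hk
    rw [card_SU_succ hF (by omega), if_neg (by rw [Nat.not_even_iff_odd]; exact ⟨k, rfl⟩)]
    calc q ^ (2 * k + 1) * (q ^ (2 * k + 1 + 1) - 1) * Nat.card (SU (2 * k + 1) F q)
        ≤ q ^ (2 * k + 1) * q ^ (2 * k + 1 + 1) * q ^ ((2 * k + 1) ^ 2 - 1) :=
          Nat.mul_le_mul (Nat.mul_le_mul_left _ (Nat.sub_le _ _)) hk
      _ = q ^ ((2 * k + 2) ^ 2 - 1) := by
          rw [← pow_add, ← pow_add]
          congr 1
          have h1 : (2 * k + 1) ^ 2 = (2 * k + 1) ^ 2 - 1 + 1 := by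
            have : 1 ≤ (2 * k + 1) ^ 2 := Nat.one_le_pow _ _ (by omega)
            omega
          have h2 : (2 * k + 2) ^ 2 = (2 * k + 1) ^ 2 + (4 * k + 3) := by ring
          omega
  induction m with
  | zero =>
    have h1 : Nat.card (SU (2 * 0 + 1) F q) ≤ q ^ ((2 * 0 + 1) ^ 2 - 1) := by
      rw [show 2 * 0 + 1 = 1 from rfl, card_SU_one hF]
      exact Nat.one_le_pow _ _ hq
    exact ⟨h1, key h1⟩
  | succ m ih =>
    have h1 : Nat.card (SU (2 * (m + 1) + 1) F q) ≤ q ^ ((2 * (m + 1) + 1) ^ 2 - 1) := by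
      rw [card_SU_succ hF (by omega), if_pos (by exact ⟨m + 1, by ring⟩), show 2 * (m + 1) = 2 * m + 1 + 1 by ring,
        card_SU_succ hF (by omega), if_neg (by rw [Nat.not_even_iff_odd]; exact ⟨m, rfl⟩)]
      have h2 : (q ^ (2 * m + 1 + 1 + 1) + 1) * (q ^ (2 * m + 1 + 1) - 1) ≤ q ^ (2 * m + 1 + 1 + 1) * q ^ (2 * m + 1 + 1) := by
        have h3 : 1 ≤ q ^ (2 * m + 1 + 1) := Nat.one_le_pow _ _ hq
        obtain ⟨a, ha⟩ : ∃ a, q ^ (2 * m + 1 + 1) = a + 1 := ⟨_, (Nat.sub_add_cancel h3).symm⟩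
        have h4 : q ^ (2 * m + 1 + 1) ≤ q ^ (2 * m + 1 + 1 + 1) := Nat.pow_le_pow_right hq (by omega)
        rw [ha, Nat.add_sub_cancel]
        rw [ha] at h4
        linarith only [h4]
      calc q ^ (2 * m + 1 + 1) * (q ^ (2 * m + 1 + 1 + 1) + 1) *
            (q ^ (2 * m + 1) * (q ^ (2 * m + 1 + 1) - 1) * Nat.card (SU (2 * m + 1) F q))
          = q ^ (2 * m + 1 + 1) * q ^ (2 * m + 1) * ((q ^ (2 * m + 1 + 1 + 1) + 1) * (q ^ (2 * m + 1 + 1) - 1)) *
            Nat.card (SU (2 * m + 1) F q) := by ring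
        _ ≤ q ^ (2 * m + 1 + 1) * q ^ (2 * m + 1) * (q ^ (2 * m + 1 + 1 + 1) * q ^ (2 * m + 1 + 1)) *
            q ^ ((2 * m + 1) ^ 2 - 1) := Nat.mul_le_mul (Nat.mul_le_mul_left _ h2) ih.1
        _ = q ^ ((2 * m + 1 + 1 + 1) ^ 2 - 1) := by
          rw [← pow_add, ← pow_add, ← pow_add, ← pow_add]
          congr 1
          have h1 : (2 * m + 1) ^ 2 = (2 * m + 1) ^ 2 - 1 + 1 := by
            have : 1 ≤ (2 * m + 1) ^ 2 := Nat.one_le_pow _ _ (by omega)
            omega
          have h2 : (2 * m + 1 + 1 + 1) ^ 2 = (2 * m + 1) ^ 2 + (8 * m + 8) := by ring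
          (clear * - h1 h2; omega)
    exact ⟨h1, key h1⟩

theorem card_SU_le (hF : Fintype.card F = q ^ 2) (hn : 1 ≤ n) : Nat.card (SU n F q) ≤ q ^ (n ^ 2 - 1) := by
  rcases Nat.even_or_odd n with ⟨c, hc⟩ | ⟨c, hc⟩
  · obtain ⟨m, rfl⟩ : ∃ m, c = m + 1 := ⟨c - 1, by omega⟩
    have hn : n = 2 * m + 2 := by omega
    subst hn
    exact (card_SU_le_aux hF m).2
  · subst hc
    exact (card_SU_le_aux hF c).1

/-- the order of the preimage -/
theorem card_comap_pr (X : Subgroup (PSU n F q)) :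
    Nat.card (X.comap (pr : SU n F q →* _)) = Nat.card (Subgroup.center (SU n F q)) * Nat.card X := by
  have hfin : Finite (SU n F q) := inferInstance
  have hfin2 : Finite (PSU n F q) := Quotient.finite _
  have h1 := (X.comap (pr : SU n F q →* _)).card_mul_index
  have h2 := X.card_mul_index
  have h3 : (X.comap (pr : SU n F q →* _)).index = X.index := Subgroup.index_comap_of_surjective X pr_surjective
  have h4 : Nat.card (Subgroup.center (SU n F q)) * Nat.card (PSU n F q) = Nat.card (SU n F q) :=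
    Subgroup.card_mul_index _
  have hpos : 0 < X.index := Nat.pos_of_ne_zero Subgroup.index_ne_zero_of_finite
  apply Nat.eq_of_mul_eq_mul_right hpos
  rw [← h3, h1, ← h4, ← h2, h3]
  ring

/-! ### the stabiliser of a nonsingular line -/

/-- the stabiliser of a vector -/
def fixV (q : ℕ) (w : Fin n → F) : Subgroup (SU n F q) where
  carrier := {g | act g w = w}
  mul_mem' {a b} ha hb := by
    change act (a * b) w = w
    rw [act_mul, show act b w = w from hb, show act a w = w from ha]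
  one_mem' := act_one w
  inv_mem' {a} ha := by
    change act a⁻¹ w = w
    conv_lhs => rw [← show act a w = w from ha]
    exact act_inv_act a w

theorem mem_fixV {w : Fin n → F} {g : SU n F q} : g ∈ fixV q w ↔ act g w = w := Iff.rfl

/-- a finite subgroup of the multiplicative group, all elements of which satisfy `x ^ m = 1` -/
theorem card_dvd_of_pow {K : Type*} [Field K] [Finite K] (R : Subgroup Kˣ) {m : ℕ} (h : ∀ x ∈ R, x ^ m = 1) :
    Nat.card R ∣ m := by
  obtain ⟨g, hg⟩ := IsCyclic.exists_generator (α := R)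
  rw [← orderOf_eq_card_of_forall_mem_zpowers hg]
  apply orderOf_dvd_of_pow_eq_one
  apply Subtype.ext
  exact h g g.2

/-- the order of a group between the stabiliser of a nonsingular vector and the stabiliser of its line -/
theorem card_between (hF : Fintype.card F = q ^ 2) (hn : 3 ≤ n) {A : Subgroup (SU n F q)}
    (hZ : Subgroup.center (SU n F q) ≤ A) {w : Fin n → F} (hw : hermForm n F q w w ≠ 0)
    (hS : ∀ g : SU n F q, act g w = w → g ∈ A) (hA : ∀ g ∈ A, ∃ c : F, act g w = c • w) :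
    ∃ b, b ∣ q + 1 ∧ Nat.card A = Nat.card (fixV q w) * (Nat.card (Subgroup.center (SU n F q)) * b) := by
  have hfin : Finite (SU n F q) := inferInstance
  have hval : ∀ {g : SU n F q} {c : F}, act g w = c • w → hermForm n F q (act g w) w / hermForm n F q w w = c := by
    intro g c h
    rw [h, herm_smul_left, mul_div_cancel_right₀ _ hw]
  let χ : A →* F :=
    { toFun := fun g => hermForm n F q (act (g : SU n F q) w) w / hermForm n F q w w
      map_one' := by
        rw [Subgroup.coe_one, act_one, div_self hw]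
      map_mul' := fun g h => by
        obtain ⟨c, hc⟩ := hA g g.2
        obtain ⟨d, hd⟩ := hA h h.2
        rw [hval hc, hval hd]
        apply hval
        rw [Subgroup.coe_mul, act_mul, hd, act_smul, hc, smul_smul, mul_comm] }
  have hχ : ∀ g : A, act (g : SU n F q) w = χ g • w := by
    intro g
    obtain ⟨c, hc⟩ := hA g g.2
    rw [hc]
    congr 1
    exact (hval hc).symm
  have hχn : ∀ g : A, χ g ^ (q + 1) = 1 := by
    intro g
    have h1 := herm_act (g : SU n F q) w w
    rw [hχ, herm_smul_left, herm_smul_right, ← mul_assoc, ← pow_succ'] at h1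
    exact (mul_eq_right₀ hw).1 h1
  have hker : χ.toHomUnits.ker = (fixV q w).subgroupOf A := by
    ext g
    rw [MonoidHom.mem_ker, Subgroup.mem_subgroupOf, mem_fixV, hχ]
    constructor
    · intro h
      have h1 : χ g = 1 := by
        have := congrArg (fun u : Fˣ => (u : F)) h
        exact this
      rw [h1, one_smul]
    · intro h
      apply Units.ext
      change χ g = 1
      by_contra h1
      have h2 : (χ g - 1) • w = 0 := by rw [sub_smul, h, one_smul, sub_self]
      rcases smul_eq_zero.1 h2 with h3 | h3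
      · exact h1 (sub_eq_zero.1 h3)
      · exact ne_zero_of_ns hw h3
  have hSA : fixV q w ≤ A := hS
  have h1 : Nat.card A = Nat.card (fixV q w) * Nat.card χ.toHomUnits.range := by
    rw [← Subgroup.card_mul_index χ.toHomUnits.ker, Subgroup.index_ker, hker,
      Nat.card_congr (Subgroup.subgroupOfEquivOfLe hSA).toEquiv]
  have h2 : Nat.card χ.toHomUnits.range ∣ q + 1 := by
    apply card_dvd_of_pow
    rintro _ ⟨g, rfl⟩
    apply Units.ext
    exact hχn g
  have h3 : Nat.card (Subgroup.center (SU n F q)) ∣ Nat.card χ.toHomUnits.range := by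
    have h4 : Function.Injective (χ.toHomUnits.comp (Subgroup.inclusion hZ)) := by
      rw [injective_iff_map_eq_one]
      intro z hz
      have h5 : Subgroup.inclusion hZ z ∈ χ.toHomUnits.ker := hz
      rw [hker, Subgroup.mem_subgroupOf, mem_fixV] at h5
      obtain ⟨c, -, -, hc⟩ := Cfsg.Agent.ClassicalGeometry.PSUAutBasic.exists_scalar_of_mem_center hF hn z.2
      have h6 : act (z : SU n F q) w = w := h5
      rw [hc] at h6
      have h7 : c = 1 := by
        by_contra h8
        have h9 : (c - 1) • w = 0 := by rw [sub_smul, h6, one_smul, sub_self]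
        rcases smul_eq_zero.1 h9 with h10 | h10
        · exact h8 (sub_eq_zero.1 h10)
        · exact ne_zero_of_ns hw h10
      apply Subtype.ext
      apply Cfsg.Agent.ClassicalGeometry.UnitTransv.ext_act
      intro x
      have h8 : act (z : SU n F q) x = x := by rw [hc, h7, one_smul]
      exact h8.trans (act_one x).symm
    have h5 : Nat.card (Subgroup.center (SU n F q)) = Nat.card (χ.toHomUnits.comp (Subgroup.inclusion hZ)).range :=
      Nat.card_congr (Equiv.ofInjective _ h4)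
    rw [h5]
    apply Subgroup.card_dvd_of_le
    rintro _ ⟨z, rfl⟩
    exact ⟨_, rfl⟩
  obtain ⟨b, hb⟩ := h3
  refine ⟨b, (Dvd.intro_left _ hb.symm).trans h2, ?_⟩
  rw [h1, hb]

end Card

theorem card_fixV {F : Type} [Field F] [Fintype F] {n q : ℕ} (hF : Fintype.card F = q ^ 2) {w : Fin (n + 1) → F} (hw : hermForm (n + 1) F q w w ≠ 0) :
    Nat.card (fixV q w) = Nat.card (SU n F q) := by
  obtain ⟨ι, hι, hιr⟩ := exists_iota hF hw
  have h1 : fixV q w = ι.range := by
    ext g
    exact hιr g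
  rw [h1]
  exact (Nat.card_congr (Equiv.ofInjective ι hι)).symm

section Plug

variable {F : Type} [Field F] [Fintype F] {N p f : ℕ} {G : Type u} [Group G] [Finite G] {T X Y : Subgroup G}

/-- `Z` contains the stabiliser of the nonsingular vector `w` -/
def ResW (e : T ≃* PSU N F (p ^ f)) (Z : Subgroup G) (w : Fin N → F) : Prop :=
  hermForm N F (p ^ f) w w ≠ 0 ∧ ∀ g : SU N F (p ^ f), act g w = w → ((e.symm (pr g) : T) : G) ∈ Z

theorem center_le_comap (Z : Subgroup (PSU N F (p ^ f))) :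
    Subgroup.center (SU N F (p ^ f)) ≤ Z.comap (pr : SU N F (p ^ f) →* _) := by
  intro z hz
  have h1 : pr z = 1 := (Cfsg.Agent.H674.SUBlock.pr_eq_one_iff z).2 hz
  change pr z ∈ Z
  rw [h1]
  exact Z.one_mem

/-- **the order of the residual factor** -/
theorem card_res (h : Fac T X Y) (hp : p.Prime) (hf : 1 ≤ f) (hF : Fintype.card F = (p ^ f) ^ 2) (hN : 3 ≤ N)
    (h32 : ¬ (N = 3 ∧ p ^ f = 2)) (e : T ≃* PSU N F (p ^ f)) {w : Fin N → F} (hw : ResW e Y w) :
    ∃ a b, a ∣ 2 * f * Nat.gcd N (p ^ f + 1) ∧ b ∣ p ^ f + 1 ∧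
      Nat.card ((img e X).comap (pr : SU N F (p ^ f) →* _)) * (a * b) =
        (p ^ f) ^ (N - 1) * (if Even N then (p ^ f) ^ N - 1 else (p ^ f) ^ N + 1) := by
  have := Fact.mk hp
  have hfin : Finite (SU N F (p ^ f)) := inferInstance
  obtain ⟨a, -, ha, hcard⟩ := h.card0
  have hout : Nat.card (Out T) = Nat.gcd N (p ^ f + 1) * (2 * f) := by
    rw [H548.Crit.card_out_congr e, card_out_psu hf hF hN h32]
  rw [hout, mul_comm] at ha
  rw [← card_img e X, ← card_img e Y, Nat.card_congr e.toEquiv] at hcard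
  set L := (img e Y).comap (pr : SU N F (p ^ f) →* _) with hL
  have hYt : img e Y ≠ ⊤ := (pr_of_fac h hp hf hF hN h32 e).neY
  have hLt : L ≠ ⊤ := comap_ne_top hYt
  have hS : ∀ g : SU N F (p ^ f), act g w = w → g ∈ L := by
    intro g hg
    change pr g ∈ img e Y
    have h1 := (mem_img e (X := Y) (t := e.symm (pr g))).2 (hw.2 g hg)
    rwa [e.apply_symm_apply] at h1
  obtain ⟨b, hb, hLc⟩ := card_between hF hN (center_le_comap (img e Y)) hw.1 hS (line_of_stab hF hN h32 hLt hw.1 hS)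
  refine ⟨a, b, ha, hb, ?_⟩
  obtain ⟨n, rfl⟩ : ∃ n, N = n + 1 := ⟨N - 1, by omega⟩
  rw [card_fixV hF hw.1, card_comap_pr] at hLc
  have hS1 := card_SU_succ hF (n := n) (by omega)
  have h4 : Nat.card (Subgroup.center (SU (n + 1) F (p ^ f))) * Nat.card (PSU (n + 1) F (p ^ f)) =
      Nat.card (SU (n + 1) F (p ^ f)) := Subgroup.card_mul_index _
  have hpos : 0 < Nat.card (Subgroup.center (SU (n + 1) F (p ^ f))) := Nat.card_pos
  have hpos2 : 0 < Nat.card (SU n F (p ^ f)) := Nat.card_pos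
  rw [card_comap_pr, Nat.add_sub_cancel]
  have hite : (if Even (n + 1) then (p ^ f) ^ (n + 1) - 1 else (p ^ f) ^ (n + 1) + 1) =
      (if Even n then (p ^ f) ^ (n + 1) + 1 else (p ^ f) ^ (n + 1) - 1) := by
    by_cases hn : Even n
    · rw [if_pos hn, if_neg (by rw [Nat.even_add_one, not_not]; exact hn)]
    · rw [if_neg hn, if_pos (by rw [Nat.even_add_one]; exact hn)]
  rw [hite]
  -- `|Z| |X0| a b |SU_n| |Z| = |Z| |X0| a |L| = ...`
  apply Nat.eq_of_mul_eq_mul_right hpos2
  apply Nat.eq_of_mul_eq_mul_right hpos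
  calc Nat.card (Subgroup.center (SU (n + 1) F (p ^ f))) * Nat.card (img e X) * (a * b) * Nat.card (SU n F (p ^ f)) *
        Nat.card (Subgroup.center (SU (n + 1) F (p ^ f)))
      = Nat.card (Subgroup.center (SU (n + 1) F (p ^ f))) * Nat.card (img e X) * a *
        (Nat.card (SU n F (p ^ f)) * (Nat.card (Subgroup.center (SU (n + 1) F (p ^ f))) * b)) := by ring
    _ = Nat.card (Subgroup.center (SU (n + 1) F (p ^ f))) * Nat.card (Subgroup.center (SU (n + 1) F (p ^ f))) *
        (Nat.card (img e X) * Nat.card (img e Y) * a) := by rw [← hLc]; ring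
    _ = Nat.card (Subgroup.center (SU (n + 1) F (p ^ f))) * Nat.card (SU (n + 1) F (p ^ f)) := by
        rw [hcard, mul_assoc, h4]
    _ = _ := by rw [hS1]; ring

/-- **the elements of prime order `≠ p` of the residual factor are fixed point free** -/
theorem fpf_res (h : Fac T X Y) (hp : p.Prime) (hF : Fintype.card F = (p ^ f) ^ 2) (hN : 3 ≤ N)
    (e : T ≃* PSU N F (p ^ f)) {w : Fin N → F} (hw : ResW e Y w) :
    H997.Rg.Fpf p ((rho N F (p ^ f)).comp ((img e X).comap (pr : SU N F (p ^ f) →* _)).subtype) := by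
  intro g hgp hgne v hv
  by_contra hv0
  have hv' : act (g : SU N F (p ^ f)) v = v := by
    have h1 : rho N F (p ^ f) (g : SU N F (p ^ f)) v = v := hv
    rwa [rho_apply] at h1
  have hgo : orderOf (g : SU N F (p ^ f)) = orderOf g := Subgroup.orderOf_coe g
  have hgs : (g : SU N F (p ^ f)) ^ orderOf g ^ 1 = 1 := by rw [pow_one, ← hgo, pow_orderOf_eq_one]
  have hnd : ¬ orderOf g ∣ p ^ f := fun h1 =>
    hgne ((Nat.prime_dvd_prime_iff_eq hgp hp).1 (hgp.dvd_of_dvd_pow h1))
  have hND := nd_fx (a := 1) hF hgp hnd hgs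
  obtain ⟨u, hu, huu⟩ := exists_norm_one_vector hF (fx (g : SU N F (p ^ f))) hND (by
    intro h0
    have h1 : v ∈ fx (g : SU N F (p ^ f)) := hv'
    rw [h0, Submodule.mem_bot] at h1
    exact hv0 h1)
  have hu' : act (g : SU N F (p ^ f)) u = u := hu
  obtain ⟨x, c, hc0, hxu⟩ := exists_move hF (by omega) (by rw [huu]; exact one_ne_zero) hw.1
  have hfix : act (x * (g : SU N F (p ^ f)) * x⁻¹) w = w := by
    have h1 : w = c⁻¹ • act x u := by rw [hxu, smul_smul, inv_mul_cancel₀ hc0, one_smul]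
    rw [h1, act_smul, act_mul, act_mul, act_inv_act, hu']
  have h1 := hw.2 _ hfix
  have h2 : ((e.symm (pr (g : SU N F (p ^ f))) : T) : G) ∈ X := by
    rw [← mem_img e, e.apply_symm_apply]
    exact g.2
  have h3 : ((e.symm (pr (g : SU N F (p ^ f))) : T) : G) = 1 := by
    refine h.not_conj h2 ((e.symm (pr x) : T) : G) ?_
    have h4 : ((e.symm (pr x) : T) : G) * ((e.symm (pr (g : SU N F (p ^ f))) : T) : G) * ((e.symm (pr x) : T) : G)⁻¹ =
        ((e.symm (pr (x * (g : SU N F (p ^ f)) * x⁻¹)) : T) : G) := by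
      rw [map_mul, map_mul, map_mul, map_mul, map_inv, map_inv]
      rfl
    rw [h4]
    exact h1
  have h4 : pr (g : SU N F (p ^ f)) = 1 := by
    have h5 : e.symm (pr (g : SU N F (p ^ f))) = 1 := Subtype.ext h3
    rw [← e.apply_symm_apply (pr (g : SU N F (p ^ f))), h5, map_one]
  rw [Cfsg.Agent.H674.SUBlock.pr_eq_one_iff] at h4
  obtain ⟨d, -, -, hd⟩ := Cfsg.Agent.ClassicalGeometry.PSUAutBasic.exists_scalar_of_mem_center hF hN h4
  have h5 : act (g : SU N F (p ^ f)) v = d • v := hd v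
  rw [hv'] at h5
  have h6 : d = 1 := by
    by_contra h7
    have h8 : (d - 1) • v = 0 := by rw [sub_smul, ← h5, one_smul, sub_self]
    rcases smul_eq_zero.1 h8 with h9 | h9
    · exact h7 (sub_eq_zero.1 h9)
    · exact hv0 h9
  have h7 : (g : SU N F (p ^ f)) = 1 := by
    apply Cfsg.Agent.ClassicalGeometry.UnitTransv.ext_act
    intro x
    have h8 : act (g : SU N F (p ^ f)) x = x := by
      have h9 : act (g : SU N F (p ^ f)) x = d • x := hd x
      rw [h9, h6, one_smul]
    exact h8.trans (act_one x).symm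
  rw [← hgo, h7, orderOf_one] at hgp
  exact Nat.not_prime_one hgp

/-! ### the size table -/

theorem lt_of_fac {q m c : ℕ} (h : 3 * Nat.factorial 29 < q ^ m) (hc : c ^ m ≤ 3 * Nat.factorial 29) : c < q := by
  by_contra hq
  exact absurd (h.trans_le (Nat.pow_le_pow_left (not_lt.1 hq) m)) (not_lt.2 hc)

theorem large_res {q : ℕ} (h : Fac T X Y) (hF : Fintype.card F = q ^ 2) (hN : 1 ≤ N) (e : T ≃* PSU N F q) :
    3 * Nat.factorial 29 < q ^ (N ^ 2 - 1) := by
  have hfin : Finite (SU N F q) := inferInstance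
  refine h.large.trans_le ?_
  rw [Nat.card_congr e.toEquiv]
  refine le_trans ?_ (card_SU_le hF hN)
  exact Nat.card_le_card_of_surjective (pr : SU N F q → _) pr_surjective

/-- **the size table** -/
theorem size_res {q : ℕ} (h : Fac T X Y) (hF : Fintype.card F = q ^ 2) (hN : 1 ≤ N) (e : T ≃* PSU N F q) :
    (N = 3 → 8471 < q) ∧ (N = 4 → 124 < q) ∧ (N = 5 → 20 < q) ∧ (N = 6 → 7 < q) ∧ (N = 7 → 4 < q) ∧
      (N = 8 → 3 < q) ∧ (N = 9 → 2 < q) ∧ (N = 10 → 2 < q) := by
  have hl := large_res h hF hN e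
  refine ⟨?_, ?_, ?_, ?_, ?_, ?_, ?_, ?_⟩
  all_goals
    rintro rfl
    refine lt_of_fac hl ?_
    norm_num [Nat.factorial]

/-! ### primes -/

end Plug

end Cfsg.Agent.H89.Reg
end

-- part: H533/Reg/Ev
section
/-!
# S3691, `PSU_n(q)`, `n ≤ 8`: proper subgroups of `SU_n(q)`, `n = 4, 6, 8`, containing a primitive prime (helper533)

* `even_gen` : such a subgroup fixes a nonsingular line or is contained in a residual maximal subgroup
* `line_case` : subgroups fixing a nonsingular line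
* `res4`, `res6`, `res8`
-/

set_option autoImplicit false
set_option linter.unusedSectionVars false

namespace Cfsg.Agent.H533.Reg

open Module Cfsg Cfsg.Geo Cfsg.Agent.LieClassical.HermBasic Cfsg.Agent.H918 Cfsg.Agent.H251.GeoU Cfsg.Agent.H89.Reg
open Cfsg.Agent.LieClassical.HermSiegel (act mat act_mul act_one act_inv_act act_act_inv herm_act act_smul act_add)
open scoped Matrix MatrixGroups

variable {F : Type} [Field F] [Fintype F] {n p f l q : ℕ}

/-- a subgroup fixing a nonsingular line -/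
theorem card_fixline {A : Subgroup (SU n F q)} {w : Fin n → F}
    (hw : hermForm n F q w w ≠ 0) (hA : ∀ g ∈ A, ∃ c : F, act g w = c • w) :
    ∃ b, b ∣ q + 1 ∧ Nat.card A = Nat.card ((fixV q w).subgroupOf A) * b := by
  have hval : ∀ {g : SU n F q} {c : F}, act g w = c • w → hermForm n F q (act g w) w / hermForm n F q w w = c := by
    intro g c h
    rw [h, herm_smul_left, mul_div_cancel_right₀ _ hw]
  let χ : A →* F :=
    { toFun := fun g => hermForm n F q (act (g : SU n F q) w) w / hermForm n F q w w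
      map_one' := by
        rw [Subgroup.coe_one, act_one, div_self hw]
      map_mul' := fun g h => by
        obtain ⟨c, hc⟩ := hA g g.2
        obtain ⟨d, hd⟩ := hA h h.2
        rw [hval hc, hval hd]
        apply hval
        rw [Subgroup.coe_mul, act_mul, hd, act_smul, hc, smul_smul, mul_comm] }
  have hχ : ∀ g : A, act (g : SU n F q) w = χ g • w := by
    intro g
    obtain ⟨c, hc⟩ := hA g g.2
    rw [hc]
    congr 1
    exact (hval hc).symm
  have hχn : ∀ g : A, χ g ^ (q + 1) = 1 := by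
    intro g
    have h1 := herm_act (g : SU n F q) w w
    rw [hχ, herm_smul_left, herm_smul_right, ← mul_assoc, ← pow_succ'] at h1
    exact (mul_eq_right₀ hw).1 h1
  have hker : χ.toHomUnits.ker = (fixV q w).subgroupOf A := by
    ext g
    rw [MonoidHom.mem_ker, Subgroup.mem_subgroupOf, mem_fixV, hχ]
    constructor
    · intro h
      have h1 : χ g = 1 := by
        have := congrArg (fun u : Fˣ => (u : F)) h
        exact this
      rw [h1, one_smul]
    · intro h
      apply Units.ext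
      change χ g = 1
      by_contra h1
      have h2 : (χ g - 1) • w = 0 := by rw [sub_smul, h, one_smul, sub_self]
      rcases smul_eq_zero.1 h2 with h3 | h3
      · exact h1 (sub_eq_zero.1 h3)
      · exact ne_zero_of_ns hw h3
  refine ⟨Nat.card χ.toHomUnits.range, ?_, ?_⟩
  · apply card_dvd_of_pow
    rintro _ ⟨g, rfl⟩
    apply Units.ext
    exact hχn g
  · rw [← Subgroup.card_mul_index χ.toHomUnits.ker, Subgroup.index_ker, hker]

/-- **subgroups fixing a nonsingular line**: either they contain the stabiliser of the vector, or are given by a proper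
subgroup of `SU_(n-1)(q)` -/
theorem line_case (hF : Fintype.card F = q ^ 2) {A : Subgroup (SU (n + 1) F q)} {w : Fin (n + 1) → F}
    (hw : hermForm (n + 1) F q w w ≠ 0) (hA : ∀ g ∈ A, ∃ c : F, act g w = c • w) (hl : l.Prime) (hlq : ¬ l ∣ q + 1)
    (hd : l ∣ Nat.card A) :
    (∀ g : SU (n + 1) F q, act g w = w → g ∈ A) ∨
      ∃ B : Subgroup (SU n F q), B ≠ ⊤ ∧ l ∣ Nat.card B ∧ Nat.card A ≤ (q + 1) * Nat.card B := by
  obtain ⟨ι, hι, hιr⟩ := exists_iota hF hw
  obtain ⟨b, hb, hc⟩ := card_fixline hw hA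
  have hcB : Nat.card ((fixV q w).subgroupOf A) = Nat.card (A.comap ι) := by
    have h1 : Nat.card (A.comap ι) = Nat.card ((A.comap ι).map ι) :=
      (Subgroup.card_map_of_injective hι).symm
    have h2 : (A.comap ι).map ι = fixV q w ⊓ A := by
      ext g
      constructor
      · rintro ⟨b, hb, rfl⟩
        exact ⟨(hιr _).2 ⟨b, rfl⟩, hb⟩
      · rintro ⟨hg, hgA⟩
        obtain ⟨b, rfl⟩ := (hιr g).1 hg
        exact ⟨b, hgA, rfl⟩
    rw [h1, h2, ← Subgroup.inf_subgroupOf_right (fixV q w) A,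
      Nat.card_congr (Subgroup.subgroupOfEquivOfLe (inf_le_right : fixV q w ⊓ A ≤ A)).toEquiv]
  by_cases htop : A.comap ι = ⊤
  · left
    intro g hg
    obtain ⟨b, rfl⟩ := (hιr g).1 hg
    have : b ∈ A.comap ι := by rw [htop]; trivial
    exact this
  · right
    refine ⟨A.comap ι, htop, ?_, ?_⟩
    · rw [hc, hcB] at hd
      exact (hl.dvd_mul.1 hd).resolve_right fun h1 => hlq (h1.trans hb)
    · rw [hc, hcB, mul_comm]
      exact Nat.mul_le_mul_right _ (Nat.le_of_dvd (Nat.succ_pos q) hb)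

section

variable (hF : Fintype.card F = (p ^ f) ^ 2) (hp : p.Prime) (hf : 1 ≤ f)

include hF hp hf

/-- the maximal overgroup for `n = m + 1` even -/
theorem even_gen {m : ℕ} (hn : 4 ≤ n) (hm : Odd m) (hnm : n = m + 1) (hl : Pm p f m l) {A : Subgroup (SU n F (p ^ f))}
    (hA : A ≠ ⊤) (hd : l ∣ Nat.card A) :
    (∃ w : Fin n → F, hermForm n F (p ^ f) w w ≠ 0 ∧ ∀ g ∈ A, ∃ c : F, act g w = c • w) ∨
      ∃ H : Subgroup (GL (Fin n) F), IsMaximalIn (SUg n F (p ^ f)) H ∧ A.map (suHom n F (p ^ f)) ≤ H ∧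
        InUnitaryResidualClass H := by
  obtain ⟨H, hH, hAH⟩ := exists_max hA
  have hfinG : Finite (GL (Fin n) F) := inferInstance
  have hcA : Nat.card (A.map (suHom n F (p ^ f))) = Nat.card A := Subgroup.card_map_of_injective suHom_injective
  have hdH : l ∣ Nat.card H := (hcA ▸ hd).trans (Subgroup.card_dvd_of_le hAH)
  rcases Cfsg.Agent.S5663.result n (p ^ f) hF (by omega) (by omega) H hH.1.le
    (Cfsg.Agent.H918.sup_scalars_ne hF (by omega) (by omega) hH) with ⟨M, hM, hHM⟩ | hres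
  · left
    rcases class_gen hF hp hf hn hm (by omega) (by omega) hl hM (hdH.trans (Subgroup.card_dvd_of_le hHM)) with
      ⟨-, W, hW1, hW, rfl⟩ | ⟨h1, -⟩
    · have hND : Cfsg.Agent.GpUn.ND (p ^ f) W := by
        intro v hv h
        by_contra hv0
        obtain ⟨-, u, hu, huv⟩ := hW v hv hv0
        exact huv (h u hu)
      obtain ⟨w, hw, hwW⟩ := exists_span hW1 hND
      refine ⟨w, hw, fun g hg => ?_⟩
      have h1 : suHom n F (p ^ f) g ∈ subspaceStabilizer W := (hHM (hAH ⟨g, hg, rfl⟩)).1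
      have h2 : act g w ∈ W := (h1 w).1 hwW
      have hw0 : w ≠ 0 := ne_zero_of_ns hw
      obtain ⟨c, hc⟩ := (finrank_eq_one_iff_of_nonzero' (⟨w, hwW⟩ : W) (by
        intro h; exact hw0 (congrArg Subtype.val h))).1 hW1 ⟨act g w, h2⟩
      exact ⟨c, (congrArg Subtype.val hc).symm⟩
    · omega
  · exact Or.inr ⟨H, hH, hAH, hres⟩

theorem card_map_le {A : Subgroup (SU n F (p ^ f))} {H : Subgroup (GL (Fin n) F)}
    (hAH : A.map (suHom n F (p ^ f)) ≤ H) : Nat.card A ≤ Nat.card H := by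
  have hfinG : Finite (GL (Fin n) F) := inferInstance
  have hcA : Nat.card (A.map (suHom n F (p ^ f))) = Nat.card A := Subgroup.card_map_of_injective suHom_injective
  rw [← hcA]
  exact Nat.card_le_card_of_injective (Subgroup.inclusion hAH) (Subgroup.inclusion_injective hAH)

/-- residual subgroups, `n = 4` -/
theorem res4 (hL4 : L4) (hq : 3 < p ^ f) {A : Subgroup (SU 4 F (p ^ f))} {H : Subgroup (GL (Fin 4) F)}
    (hH : IsMaximalIn (SUg 4 F (p ^ f)) H) (hAH : A.map (suHom 4 F (p ^ f)) ≤ H) (hres : InUnitaryResidualClass H) :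
    f = 1 ∧ Nat.card A ≤ 207360 := by
  obtain ⟨P, hcore, hqp, hcases⟩ := hL4 (p ^ f) hF H hH hres
  refine ⟨f_one hqp, ?_⟩
  have h0 := card_map_le hF hp hf hAH
  have h1 := card_res_le (by norm_num) hcore (hH.1.le.trans inf_le_right)
  have h2 : Nat.card (MulAut (P ⧸ (scalars (Fin 4) F).subgroupOf P)) ≤ 51840 := by
    rcases hcases with ⟨⟨e⟩, -⟩ | ⟨-, h3⟩ | ⟨⟨K, _, _, hK, ⟨e⟩⟩, -⟩
    · rw [Nat.card_congr (MulAut.congr e).toEquiv]
      exact (Nat.le_of_dvd (by norm_num) card_aut_a7).trans (by norm_num)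
    · omega
    · rw [Nat.card_congr (MulAut.congr e).toEquiv]
      exact Nat.le_of_dvd (by norm_num) (H269.U5.card_aut_u42 hK)
  omega

/-- residual subgroups, `n = 8` -/
theorem res8 (hL8 : L8) {A : Subgroup (SU 8 F (p ^ f))} {H : Subgroup (GL (Fin 8) F)}
    (hH : IsMaximalIn (SUg 8 F (p ^ f)) H) (hAH : A.map (suHom 8 F (p ^ f)) ≤ H) (hres : InUnitaryResidualClass H) :
    f = 1 ∧ Nat.card A ≤ 5806080 := by
  obtain ⟨P, hcore, hqp, -, K, _, _, hK, ⟨e⟩⟩ := hL8 (p ^ f) hF H hH hres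
  refine ⟨f_one hqp, ?_⟩
  have h0 := card_map_le hF hp hf hAH
  have h1 := card_res_le (by norm_num) hcore (hH.1.le.trans inf_le_right)
  have h2 : Nat.card (MulAut (P ⧸ (scalars (Fin 8) F).subgroupOf P)) ≤ 725760 := by
    rw [Nat.card_congr (MulAut.congr e).toEquiv]
    exact card_aut_l34 hK
  omega

/-- `l` does not divide `|Aut(PSU_3(q))|` -/
theorem not_dvd_u3 (hl : Pm p f 5 l) (hq : 3 ≤ p ^ f) : ¬ l ∣ Nat.card (MulAut (Cfsg.PSU 3 F (p ^ f))) := by
  have := Fact.mk hp
  have hpr := hl.pr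
  have hlt := hl.lt hp hf (by norm_num)
  rw [Cfsg.Agent.S0815.result (F := F) p f hf rfl hF 3 le_rfl (by omega)]
  intro h
  have h10 : 10 < l := by linarith only [hf, hlt]
  rcases hpr.dvd_mul.1 h with h1 | h1
  · rcases hpr.dvd_mul.1 h1 with h2 | h2
    · have h3 := Nat.le_of_dvd (by norm_num) (h2.trans (Nat.gcd_dvd_left 3 (p ^ f + 1)))
      omega
    · rcases hpr.dvd_mul.1 h2 with h3 | h3
      · have h4 := Nat.le_of_dvd (by norm_num) h3
        omega
      · exact hl.not_dvd_f hp hf (by norm_num) h3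
  · have h2 : l ∣ (p ^ f + 1) * Nat.card (Cfsg.SU 3 F (p ^ f)) :=
      Dvd.dvd.mul_left (h1.trans (Subgroup.card_quotient_dvd_card _)) _
    rw [Cfsg.Agent.S0278.result hF 3 (by norm_num), Finset.prod_range_succ, Finset.prod_range_succ,
      Finset.prod_range_one] at h2
    have hq0 : ¬ l ∣ p ^ f := hl.not_dvd_q hp hf (by norm_num)
    rw [if_pos (by decide), if_neg (by decide), if_pos (by decide)] at h2
    rcases hpr.dvd_mul.1 h2 with h3 | h3
    · exact hq0 (hpr.dvd_of_dvd_pow h3)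
    · rcases hpr.dvd_mul.1 h3 with h4 | h4
      · rcases hpr.dvd_mul.1 h4 with h5 | h5
        · rw [zero_add, pow_one] at h5
          exact hl.not_dvd_succ hf (by norm_num) h5
        · rw [← pow_mul, hl.iff] at h5
          have := Nat.le_of_dvd (by positivity) h5
          linarith only [hf, this]
      · have h5 : l ∣ p ^ (f * 6) - 1 := by
          have h6 : p ^ (f * 6) - 1 = ((p ^ f) ^ 3 + 1) * ((p ^ f) ^ 3 - 1) := by
            have := Nat.sq_sub_sq ((p ^ f) ^ 3) 1
            rw [one_pow] at this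
            rw [← this, ← pow_mul, ← pow_mul]
          rw [h6]
          exact Dvd.dvd.mul_right h4 _
        rw [hl.iff] at h5
        have := Nat.le_of_dvd (by positivity) h5
        linarith only [hf, this]

/-- residual subgroups, `n = 6` -/
theorem res6 (hL6 : L6) (hq : 7 < p ^ f) (hl : Pm p f 5 l) {A : Subgroup (SU 6 F (p ^ f))} (hd : l ∣ Nat.card A)
    {H : Subgroup (GL (Fin 6) F)}
    (hH : IsMaximalIn (SUg 6 F (p ^ f)) H) (hAH : A.map (suHom 6 F (p ^ f)) ≤ H) (hres : InUnitaryResidualClass H) :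
    f = 1 ∧ Nat.card A ≤ 627056640 ∧ (p ^ f).Prime := by
  obtain ⟨P, hcore, hcases⟩ := hL6 (p ^ f) hF H hH hres
  have h0 := card_map_le hF hp hf hAH
  have h1 := card_res_le (by norm_num) hcore (hH.1.le.trans inf_le_right)
  have key : (p ^ f).Prime → Nat.card (MulAut (P ⧸ (scalars (Fin 6) F).subgroupOf P)) ≤ 104509440 →
      f = 1 ∧ Nat.card A ≤ 627056640 ∧ (p ^ f).Prime := by
    intro h3 h4
    refine ⟨f_one h3, ?_, h3⟩
    omega
  rcases hcases with ⟨⟨e⟩, h3, -⟩ | ⟨⟨e⟩, h3, -⟩ | ⟨⟨K, _, _, hK, ⟨e⟩⟩, h3, -⟩ | ⟨-, h3⟩ | ⟨⟨K, _, _, hK, ⟨e⟩⟩, h3⟩ | ⟨⟨e⟩, -⟩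
  · apply key h3
    rw [Nat.card_congr (MulAut.congr e).toEquiv]
    exact (Nat.le_of_dvd (by norm_num) H269.U5.card_aut_l211).trans (by norm_num)
  · apply key h3
    rw [Nat.card_congr (MulAut.congr e).toEquiv]
    exact (Nat.le_of_dvd (by norm_num) card_aut_a7).trans (by norm_num)
  · apply key h3
    rw [Nat.card_congr (MulAut.congr e).toEquiv]
    exact (card_aut_l34 hK).trans (by norm_num)
  · omega
  · rcases h3 with h3 | ⟨h3, -⟩
    · omega
    apply key h3
    rw [Nat.card_congr (MulAut.congr e).toEquiv]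
    exact card_aut_u43 hK
  · exfalso
    have hlp := hl.pr
    have h10 : 10 < l := by
      have := hl.lt hp hf (by norm_num)
      linarith only [hf, this]
    obtain ⟨g, hgA, hgl, hg1, hgo⟩ := Cfsg.Agent.H89.Reg.exists_elt hl.pr hd
    set x : GL (Fin 6) F := suHom 6 F (p ^ f) g with hx
    have hxH : x ∈ H := hAH ⟨g, hgA, rfl⟩
    have hX : x ^ l = 1 := by rw [hx, ← map_pow, hgl, map_one]
    have hxo : orderOf x = l := by rw [hx, orderOf_injective _ suHom_injective]; exact hgo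
    have h3 := H269.U5.ord_dvd_aut hcore hxH (fun m hm => by
      obtain ⟨c, hc⟩ := (mem_scalars_iff _).1 hm
      have hdet : ((x ^ m : GL (Fin 6) F) : Matrix (Fin 6) (Fin 6) F).det = 1 :=
        mem_specialLinear.1 ((hH.1.le.trans inf_le_right) (H.pow_mem hxH m))
      rw [hc, Matrix.det_smul, Matrix.det_one, mul_one, Fintype.card_fin] at hdet
      have hdet' : c ^ 6 = 1 := Units.ext (by rw [Units.val_pow_eq_pow_val, hdet, Units.val_one])
      have hcl : c ^ l = 1 := by
        have h4 : (x ^ m) ^ l = 1 := by rw [← pow_mul, mul_comm, pow_mul, hX, one_pow]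
        have h5 := congrArg (fun y : GL (Fin 6) F => (y : Matrix (Fin 6) (Fin 6) F)) h4
        simp only [Units.val_pow_eq_pow_val, Units.val_one] at h5
        rw [← Units.val_pow_eq_pow_val, hc, smul_pow, one_pow] at h5
        have h6 := congrFun (congrFun h5 0) 0
        apply Units.ext
        simpa using h6
      have hc1 : c = 1 := by
        have h6 : orderOf c ∣ 6 := orderOf_dvd_of_pow_eq_one hdet'
        have h7 : orderOf c ∣ l := orderOf_dvd_of_pow_eq_one hcl
        rcases (Nat.dvd_prime hlp).1 h7 with h8 | h8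
        · exact orderOf_eq_one_iff.1 h8
        · rw [h8] at h6
          have := Nat.le_of_dvd (by norm_num) h6
          omega
      apply Units.ext
      rw [hc, hc1, Units.val_one, one_smul, Units.val_one])
    rw [hxo, Nat.card_congr (MulAut.congr e).toEquiv] at h3
    exact not_dvd_u3 hF hp hf hl (by omega) h3

end

end Cfsg.Agent.H533.Reg
end
end
end
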